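import Cfsg.Agent.TIB.Basic
import Cfsg.Agent.CIT.Basic
import Cfsg.Agent.Local.TIFamily

/-!
# Abelian TI subgroups: involutions of points commuting with a fixed point commute
-/

set_option autoImplicit false

namespace Cfsg.Lib.TIB

open Subgroup Cfsg.Lib.Trans Cfsg.Lib.Gold Cfsg.Lib.TIM
open scoped commutatorElement

variable {G : Type*} [Group G] [Finite G] {S : Set (Subgroup G)} {P X Y : Subgroup G}
  {a b g x y : G}

omit [Finite G] in
theorem Cm.le_Ns (c : Cm S P X) : X ≤ Ns P := fun x hx => Cs_le_Ns (mem_Cs.2 fun _ h => c.comm _ h x hx)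

omit [Finite G] in
theorem Ns_le_Q : Ns P ≤ Ns (Qp P) := Local.le_normalizer_pCoreOf _

theorem pgroup_XQ (h : Sy S) (hX : X ∈ S) (hl : X ≤ Ns P) : IsPGroup 2 (Qp P ⊔ X : Subgroup G) :=
  (Local.isPGroup_pCoreOf _).to_sup_of_normal_left' (h.pgroup hX) (hl.trans Ns_le_Q)

theorem Sy.comm_of_pgroup (h : Sy S) {U : Subgroup G} (hX : X ∈ S) (hY : Y ∈ S) (hU : IsPGroup 2 U)
    (hx : x ∈ X) (hy : y ∈ Y) (hx2 : x * x ≠ 1) (hy2 : y * y ≠ 1) (hxU : x ∈ U) (hyU : y ∈ U)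
    (ha : a ∈ X) (hb : b ∈ Y) : a * b = b * a := by
  rcases h.cm_of_pgroup hX hY hU hx hy hx2 hy2 hxU hyU with rfl | c
  exacts [h.comm hX ha hb, c.comm a ha b hb]

theorem Cm.sq_Q (h : Sy S) (c : Cm S P X) (hy : y ∈ X) (hQ : y ∈ Qp P) : y * y = 1 := by
  by_contra n
  let F : Subgroup G → Subgroup G := fun R => sSup {X' | X' ∈ S ∧ X' ≤ Cs R}
  have k : ∀ g R, cj g (F R) ≤ F (cj g R) := fun g R => cj_le_iff_le_cj_inv.2 (sSup_le
    fun X' hX' => cj_le_iff_le_cj_inv.1 (le_sSup ⟨h.conj hX'.1 g, cj_Cs g R ▸ cj_mono g hX'.2⟩))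
  obtain ⟨a, ha, a1⟩ := h.exists_ne c.left
  have PC : P ≤ Cs P := fun x hx => mem_Cs.2 fun _ hy => h.comm c.left hy hx
  refine c.ne (h.block F (fun g R _ => (k g R).antisymm' ?_) c.left c.right
    (sSup_le fun X' hX' => le_sSup ⟨hX'.1, fun w hw => mem_Cs.2 fun v hv => ?_⟩)
    (le_sSup (s := {X' | X' ∈ S ∧ X' ≤ Cs P}) ⟨c.left, PC⟩ (Om_le ha))
    (le_Cs_comm.1 (sSup_le fun X' hX' => hX'.2) (Om_le ha)) a1 (h.sq c.left ha))
  · simpa only [cj_inv_cj, cj_inv_le_iff_le_cj] using k g⁻¹ (cj g R)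
  · obtain ⟨y', h1, h2⟩ := h.nel hX'.1
    exact h.comm_of_pgroup c.right hX'.1 (pgroup_XQ h hX'.1 (hX'.2.trans Cs_le_Ns)) hy h1 n h2
      (mem_sup_left hQ) (mem_sup_right h1) hv hw

theorem Cm.ab (h : Sy S) (c : Cm S P X) :
    ∀ p ∈ ncl X (Qp P), ∀ q ∈ ncl X (Qp P), p * q = q * p := by
  refine comm_ncl fun g hg x hx y hy => ?_
  obtain ⟨w, h1, h2⟩ := h.nel c.right
  have m : w ∈ Qp P ⊔ X := mem_sup_right h1
  exact h.comm_of_pgroup c.right (h.conj c.right g) (pgroup_XQ h c.right c.le_Ns) h1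
    (conj_mem_cj.2 h1) h2 (by simpa [conj_mul] using h2) m
    (mul_mem (mul_mem (mem_sup_left hg) m) (inv_mem (mem_sup_left hg))) hx (conj_mem_cj.2 hy)

theorem Cm.Ns_of (h : Sy S) (c : Cm S P X) (hx : x ∈ ncl X (Qp P)) : x ∈ Ns X :=
  Cs_le_Ns (mem_Cs.2 fun y hy => c.ab h y (le_ncl' hy) x hx)

theorem Sy.mem_Q_of_sq (h : Sy S) (hP : P ∈ S) (hg : g ∈ Ns P)
    (e : ∀ q ∈ Qp P, ∃ c ∈ Qp P, g * q * g⁻¹ * q⁻¹ = c * c) : g ∈ Qp P := by
  have := Fact.mk Nat.prime_two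
  refine ⟨⟨g, hg⟩, Local.mem_pCore_of_commutator_mem_frattini (fun x hx => ?_) fun q hq => ?_, rfl⟩
  · obtain ⟨y, h1, h2⟩ := h.ch hP x.2 (mem_Cs.2 (by
      rintro _ ⟨q, hq, rfl⟩
      exact congrArg Subtype.val (hx q hq)))
    exact (Subtype.ext h2 : y = x) ▸ h1
  · obtain ⟨_, ⟨c, hc, rfl⟩, e⟩ := e q ⟨q, hq, rfl⟩
    exact ⟨_, Solv.pow_mem_frattini (Solv.pCore_isPGroup _ _) ⟨c, hc⟩,
      Subtype.ext ((pow_two _).trans e.symm)⟩

theorem Cm.sq_mem (h : Sy S) (c : Cm S P X) (hy : y ∈ X) : y * y ∈ Qp P := by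
  refine h.mem_Q_of_sq c.left (c.le_Ns (mul_mem hy hy)) fun q hq =>
    ⟨⁅y, q⁆, comm_mem_right (Ns_le_Q (c.le_Ns hy)) hq, ?_⟩
  have := c.ab h y (le_ncl' hy) _ (cj_le_ncl hq (conj_mem_cj.2 (inv_mem hy)))
  calc _ = y * (y * (q * y⁻¹ * q⁻¹)) * (q * y⁻¹ * q⁻¹) := by group
    _ = _ := by rw [this, commutatorElement_def]; group

theorem exists_odd_inv {M Q : Subgroup G}
    (hQ : ∀ R ≤ M, IsPGroup 2 R → M ≤ Ns R → R ≤ Q) (ha : a ∈ M) (hn : a ∉ Q) (h2 : a * a = 1) :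
    ∃ k ∈ M, Odd (orderOf k) ∧ k ≠ 1 ∧ a * k = k⁻¹ * a := by
  have := Fact.mk Nat.prime_two
  obtain ⟨m, hm, e⟩ := CIT.exists_conj_not_isPGroup hQ ha hn
  have t2 : m * a * m⁻¹ * (m * a * m⁻¹) = 1 := by rw [conj_mul, h2]; simp
  have tM : m * a * m⁻¹ ∈ M := mul_mem (mul_mem hm ha) (inv_mem hm)
  generalize m * a * m⁻¹ = t at e t2 tM
  obtain ⟨j, hj⟩ := CIT.exists_odd_orderOf_pow (a * t)
  refine ⟨_, pow_mem (mul_mem ha tM) _, hj, fun e1 => e ?_, by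
    simpa only [zpow_neg, zpow_natCast] using dihedral_inv h2 t2 (2 ^ j : ℕ)⟩
  have k : ∀ (x : G) (n : ℕ), x ^ 2 ^ n = 1 → IsPGroup 2 (zpowers x) := fun x n e =>
    Solv.PG.isPGroup_of_forall_mem (by
      rintro _ ⟨i, rfl⟩
      exact ⟨n, by rw [← zpow_natCast, ← zpow_mul, mul_comm, zpow_mul, zpow_natCast, e, one_zpow]⟩)
  have m1 : a ∈ zpowers (a * t) ⊔ zpowers a := mem_sup_right (mem_zpowers a)
  refine ((k _ j e1).to_sup_of_normal_left' (k a 1 ((sq a).trans h2)) (zpowers_le.2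
    (mem_normalizer_of_cj_le ?_))).to_le ((closure_le _).2 (Set.pair_subset m1
      ((mul_mem_cancel_left m1).1 (mem_sup_left (mem_zpowers _)))))
  rw [cj_zpowers, zpowers_le, mul_inv_eq_iff_eq_mul.2 (by
    simpa only [zpow_neg, zpow_one] using dihedral_inv h2 t2 1)]
  exact inv_mem (mem_zpowers _)

theorem Cm.Om_le_Q (h : Sy S) (c : Cm S P X) : Om X ≤ Qp P := fun a ha => by
  by_contra n
  have a2 := h.sq c.right ha
  have aM := c.le_Ns (Om_le ha)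
  obtain ⟨k, kM, ko, k1, ki⟩ := exists_odd_inv (fun R h1 h2 h3 => Local.le_pCoreOf h1 h3 h2) aM n a2
  have c' := c.conj h k
  rw [mem_Ns_iff.1 kM] at c'
  have hb : k * a * k⁻¹ ∈ Om (cj k X) := cj_Om k X ▸ conj_mem_cj.2 ha
  have e : k * a * k⁻¹ * a = k * k := by
    rw [mul_assoc, ← ki, ← mul_assoc, mul_assoc k, a2, mul_one]
  generalize k * a * k⁻¹ = b at hb e
  have b2 := h.sq c'.right hb
  have bi := inv_eq_of_mul_eq_one_right b2
  have bW : b ∈ ncl (cj k X) (Qp P) := le_ncl' (Om_le hb)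
  have nc : a * b ≠ b * a := fun e' => k1 (CIT.eq_one_of_odd_of_two_pow (k := 2) ko (by
    rw [pow_two 2, pow_mul, pow_two, pow_two, ← e,
      mul_assoc, ← mul_assoc a, e', mul_assoc, a2, mul_one, b2]))
  have F : ∀ n : ℕ, ∀ w ∈ X ⊓ Qp P, ∃ z ∈ X ⊓ Qp P, ∃ u ∈ ncl (cj k X) (Qp P) ⊓ Qp P ⊓ Ns X,
      (k * k) ^ n * w * ((k * k) ^ n)⁻¹ = z * u := fun n w hw => by
    induction n with
    | zero => exact ⟨w, hw, 1, one_mem _, by simp⟩
    | succ n ih =>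
      obtain ⟨z, hz, u, hu, ih⟩ := ih
      have m : z * ⁅a, u⁆ ∈ X ⊓ Qp P := mul_mem hz
        ⟨comm_mem_left hu.2 (Om_le ha), comm_mem_right (Ns_le_Q aM) hu.1.2⟩
      have e1 : a * (z * u) * a⁻¹ = z * ⁅a, u⁆ * u := by
        rw [← mul_assoc, h.comm c.right (Om_le ha) hz.1, commutatorElement_def]; group
      generalize z * ⁅a, u⁆ = y at m e1
      have y2 := c.sq_Q h m.1 m.2
      have yi := inv_eq_of_mul_eq_one_right y2
      have m1 := mem_normalizer_conj (le_Ns_ncl m.2) bW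
      have e2 := c'.ab h b bW _ m1
      have e3 : ⁅b, y⁆ * y = y * ⁅b, y⁆ := by
        rw [commutatorElement_def, bi]
        calc _ = y * (y⁻¹ * b * y * b) := by group
          _ = y * (y * b * y⁻¹ * b) := by rw [yi]
          _ = _ := by rw [← e2]; group
      refine ⟨y, m, ⁅b, y⁆ * u, mul_mem ⟨⟨comm_mem_left (le_Ns_ncl m.2) bW,
        comm_mem_right (Ns_le_Q (c'.le_Ns (Om_le hb))) m.2⟩, ?_⟩ hu, ?_⟩
      · by_cases y1 : y = 1
        · simp [y1, one_mem]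
        · exact h.mem_Ns_of_comm c.right m.1 y1 e3
      · calc _ = b * (a * ((k * k) ^ n * w * ((k * k) ^ n)⁻¹) * a⁻¹) * b⁻¹ := by
              rw [pow_succ']; generalize (k * k) ^ n = v; rw [← e]; group
          _ = ⁅b, y⁆ * y * (b * u * b⁻¹) := by rw [ih, e1, commutatorElement_def]; group
          _ = _ := by rw [e3, c'.ab h b bW u hu.1.1]; group
  obtain ⟨y, hy, y1, -⟩ := h.exists_four c.right
  obtain ⟨m, hm⟩ := ko
  obtain ⟨z, hz, u, hu, e1⟩ := F (m + 1) _ ⟨mul_mem hy hy, c.sq_mem h hy⟩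
  rw [← sq k, ← pow_mul, show 2 * (m + 1) = 2 * m + 1 + 1 by ring, pow_succ, ← hm,
    pow_orderOf_eq_one, one_mul] at e1
  have m1 : z * u ∈ cj k X := e1 ▸ conj_mem_cj.2 (mul_mem hy hy)
  have z1 : z = 1 := by_contra fun z1 => nc (h.comm_of_mem c.right c'.right hz.1 z1
    (c'.Ns_of h ((Subgroup.mul_mem_cancel_right _ hu.1.1).1 (le_ncl' m1))) ha hb)
  rw [z1, one_mul] at e1 m1
  exact nc (h.comm_of_mem c'.right c.right m1 (by rw [← e1]; simpa using y1) hu.2 hb ha).symm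

theorem Sy.vc (h : Sy S) (hP : P ∈ S) (h1 : P = X ∨ Cm S P X) (h2 : P = Y ∨ Cm S P Y)
    (ha : a ∈ Om X) (hb : b ∈ Om Y) : a * b = b * a := by
  rcases h1 with rfl | c
  · rcases h2 with rfl | c'
    exacts [h.comm hP (Om_le ha) (Om_le hb), c'.comm _ (Om_le ha) _ (Om_le hb)]
  rcases h2 with rfl | c'
  · exact (c.comm _ (Om_le hb) _ (Om_le ha)).symm
  by_contra nc
  obtain ⟨y, hy, y1, -⟩ := h.exists_four c.right
  have yW : y ∈ ncl X (Qp P) := le_ncl' hy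
  have k : ∀ d ∈ Om Y, d ≠ 1 → ∀ e ∈ Om Y, y * (d * y * d) * e = e * (y * (d * y * d)) := by
    intro d hd d1 e he
    have di := inv_eq_of_mul_eq_one_right (h.sq c'.right hd)
    have m := mem_normalizer_conj (le_Ns_ncl (c'.Om_le_Q h hd)) yW
    rw [di] at m
    have n : y * (d * y * d) ∈ Ns Y := h.mem_Ns_of_comm c'.right (Om_le hd) d1 (by
      calc _ = y * (d * y) * (d * d) := by group
        _ = d * d * (y * (d * y)) := by rw [h.sq c'.right hd]; group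
        _ = d * (d * y * d * y) := by group
        _ = _ := by rw [c.ab h y yW _ m])
    exact commutatorElement_eq_one_iff_mul_comm.1 (by_contra fun e1 => nc (h.comm_of_mem c'.right
      c.right (comm_mem_right n (Om_le he)) e1 (c.Ns_of h
        (comm_mem_left (le_Ns_ncl (c'.Om_le_Q h he)) (mul_mem yW m))) hb ha).symm)
  obtain ⟨d, hd, e, he, d1, e1, de, d2, e2⟩ := h.four c'.right
  have hd' := mem_Om_of hd d2
  have he' := mem_Om_of he e2
  exact nc (h.comm_of_mem c.right c'.right (mul_mem hy hy) y1 (h.mem_Ns_of_comm c'.right he e1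
    (fgc (c.ab h) (le_Ns_ncl (c'.Om_le_Q h hd')) (le_Ns_ncl (c'.Om_le_Q h he')) d2 e2
      (h.comm c'.right hd he) yW (k d hd' d1 e he') (k _ (mul_mem hd' he') (fun e' => de (by
        rw [← inv_eq_of_mul_eq_one_right e', inv_eq_of_mul_eq_one_right d2])) e he'))) ha hb)

end Cfsg.Lib.TIB
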