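import Cfsg.Agent.TIB.GT
import Cfsg.Agent.TIB.C1

/-!
# Abelian TI subgroups: no two distinct points commute
-/

set_option autoImplicit false

namespace Cfsg.Lib.TIB

open Subgroup Cfsg.Lib.Trans Cfsg.Lib.Gold Cfsg.Lib.TIM
open scoped commutatorElement

variable {G : Type*} [Group G] {S : Set (Subgroup G)} {P P' X Y Z X₀ X₁ Y₀ Y₁ : Subgroup G}
  {a b c e g x y : G}

theorem Cm.le_Cs (c : Cm S P P') : P' ≤ Cs P := fun y hy => mem_Cs.2 fun x hx => c.comm x hx y hy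

theorem conj_mem_Cs (hg : g ∈ Ns P) (hx : x ∈ Cs P) : g * x * g⁻¹ ∈ Cs P :=
  mem_normalizer_conj (mem_Ns_Cs hg) hx

theorem Cm.cj_right (h : Sy S) (c : Cm S P P') (hg : g ∈ Ns P) : Cm S P (cj g P') := by
  have := c.conj h g
  rwa [mem_Ns_iff.1 hg] at this

theorem Sy.le_Cs (h : Sy S) (hP : P ∈ S) : P ≤ Cs P := fun _ hy =>
  mem_Cs.2 fun _ hx => h.comm hP hx hy

/-- The hypotheses of the induction step. -/
structure KC (S : Set (Subgroup G)) (X₀ X₁ Y₀ Y₁ : Subgroup G) : Prop where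
  cx : Cm S X₁ X₀
  cy : Cm S Y₁ Y₀
  hx : ∀ a ∈ Om X₁, ∀ b ∈ Om Y₀, a * b = b * a
  hy : ∀ a ∈ Om Y₁, ∀ b ∈ Om X₀, a * b = b * a
  no : ¬ ∀ a ∈ Om X₀, ∀ b ∈ Om Y₀, a * b = b * a

theorem KC.symm (k : KC S X₀ X₁ Y₀ Y₁) : KC S Y₀ Y₁ X₀ X₁ :=
  ⟨k.cy, k.cx, k.hy, k.hx, fun c => k.no fun a ha b hb => (c b hb a ha).symm⟩

/-- Paths of commuting points. -/
def Pth (S : Set (Subgroup G)) : ℕ → Subgroup G → Subgroup G → Prop
  | 0, X, Y => X ∈ S ∧ X = Y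
  | n + 1, X, Y => ∃ W, Cm S X W ∧ Pth S n W Y

theorem Pth.snoc {n : ℕ} (p : Pth S (n + 1) X Y) : ∃ W, Pth S n X W ∧ Cm S W Y := by
  induction n generalizing X with
  | zero =>
    obtain ⟨W, c, -, rfl⟩ := p
    exact ⟨X, ⟨c.left, rfl⟩, c⟩
  | succ n ih =>
    obtain ⟨W, c, p⟩ := p
    obtain ⟨V, q, d⟩ := ih p
    exact ⟨V, ⟨W, c, q⟩, d⟩

theorem Pth.conj (h : Sy S) {n : ℕ} (p : Pth S n X Y) (g : G) : Pth S n (cj g X) (cj g Y) := by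
  induction n generalizing X with
  | zero => exact ⟨h.conj p.1 g, by rw [p.2]⟩
  | succ n ih =>
    obtain ⟨W, c, p⟩ := p
    exact ⟨_, c.conj h g, ih p⟩

variable [Finite G]

theorem Sy.tri_of_comm (h : Sy S) (hX : X ∈ S) (hY : Y ∈ S)
    (hc : ∀ a ∈ Om X, ∀ b ∈ Om Y, a * b = b * a) : X = Y ∨ Cm S X Y ∨ Ep S X Y := by
  obtain ⟨a, ha, ha1⟩ := h.exists_ne hX
  obtain ⟨b, hb, hb1⟩ := h.exists_ne hY
  exact h.cases_of_mem hX hY (Om_le ha) ha1 (h.mem_Ns_of_comm hY (Om_le hb) hb1 (hc a ha b hb))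

theorem Sy.tri_nb (h : Sy S) (c : Cm S P X) (d : Cm S P Y) : X = Y ∨ Cm S X Y ∨ Ep S X Y :=
  h.tri_of_comm c.right d.right fun _ ha _ hb => h.vc c.left (.inr c) (.inr d) ha hb

theorem Sy.cm_of_cent (h : Sy S) (hX : X ∈ S) (hY : Y ∈ S) (ha : a ∈ Y) (h1 : a ≠ 1)
    (hc : a ∈ Cs X) : X = Y ∨ Cm S X Y := by
  obtain ⟨y, hy, hy2⟩ := h.nel hX
  exact h.cases_of_nsq hX hY hy hy2 (h.mem_Ns_of_comm hY ha h1 (mem_Cs.1 hc y hy))

namespace KC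

theorem nx (h : Sy S) (k : KC S X₀ X₁ Y₀ Y₁) (hx : x ∈ X₀) (hn : x ∈ Ns Y₀) : x = 1 := by
  by_contra h1
  exact k.no fun _ ha _ hb => h.comm_of_mem k.cx.right k.cy.right hx h1 hn ha hb

theorem ep (h : Sy S) (k : KC S X₀ X₁ Y₀ Y₁) : Ep S X₁ Y₀ := by
  rcases h.tri_of_comm k.cx.left k.cy.right k.hx with e | c | e
  · exact absurd (fun _ ha _ hb => h.vc k.cx.left (.inr k.cx) (.inl e) ha hb) k.no
  · exact absurd (fun _ ha _ hb => h.vc k.cx.left (.inr k.cx) (.inr c) ha hb) k.no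
  · exact e

theorem mem_Ns (h : Sy S) (k : KC S X₀ X₁ Y₀ Y₁) (hb : b ∈ Om Y₀) : b ∈ Ns X₁ :=
  (k.ep h).symm.le_Ns h hb

theorem conj_Cs (h : Sy S) (k : KC S X₀ X₁ Y₀ Y₁) (hb : b ∈ Om Y₀) (hy : y ∈ X₀) :
    y * (b * y * b) ∈ Cs X₁ := by
  have := conj_mem_Cs (k.mem_Ns h hb) (k.cx.le_Cs hy)
  rw [inv_eq_of_sq (h.sq k.cy.right hb)] at this
  exact (Cs X₁).mul_mem (k.cx.le_Cs hy) this

theorem ne_cj (h : Sy S) (k : KC S X₀ X₁ Y₀ Y₁) (hb : b ∈ Om Y₀) (he : e ∈ Om Y₀) (hne : b ≠ e) :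
    cj b X₀ ≠ cj e X₀ := fun q => by
  apply hne
  have : e⁻¹ * b ∈ Ns X₀ := by rw [mem_Ns_iff, cj_mul, q, cj_inv_cj]
  have := k.symm.nx h (Om_le ((Om Y₀).mul_mem ((Om Y₀).inv_mem he) hb)) this
  exact (inv_mul_eq_one.1 this).symm

theorem t_mem (h : Sy S) (k : KC S X₀ X₁ Y₀ Y₁) (hb : b ∈ Om Y₀) (h1 : b ≠ 1)
    (c : Cm S X₀ (cj b X₀)) (hy : y ∈ X₀) : y * (b * y * b) ∈ Cs (Om Y₀) := by
  have hb2 := h.sq k.cy.right hb
  have hc := c.comm y hy _ (conj_mem_cj.2 hy)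
  rw [inv_eq_of_sq hb2] at hc
  refine (k.ep h).one' h (h.mem_Ns_of_comm k.cy.right (Om_le hb) h1 ?_) (k.conj_Cs h hb hy)
  calc y * (b * y * b) * b = y * b * y * (b * b) := by group
    _ = b * b * y * b * y := by rw [hb2]; group
    _ = b * (b * y * b * y) := by group
    _ = b * (y * (b * y * b)) := by rw [hc]

theorem cm_all (h : Sy S) (k : KC S X₀ X₁ Y₀ Y₁) (hb : b ∈ Om Y₀) (h1 : b ≠ 1)
    (c : Cm S X₀ (cj b X₀)) (he : e ∈ Om Y₀) (he1 : e ≠ 1) : Cm S X₀ (cj e X₀) := by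
  by_cases hbe : b = e
  · exact hbe ▸ c
  have hb2 := h.sq k.cy.right hb
  have c3 := k.cx.cj_right h (k.mem_Ns h hb)
  have c4 := k.cx.cj_right h (k.mem_Ns h he)
  rcases h.tri_nb k.cx c4 with q | q | q
  · exact absurd (by rw [cj_one]; exact q) (k.ne_cj h (Om Y₀).one_mem he he1.symm)
  · exact q
  exfalso
  obtain ⟨y, hy, hy2⟩ := h.nel k.cx.right
  have hy3 : b * y * b ∈ cj b X₀ := by
    have := (conj_mem_cj (g := b)).2 hy
    rwa [inv_eq_of_sq hb2] at this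
  have ht := k.t_mem h hb h1 c hy
  have ht0 : y * (b * y * b) ∈ Cs X₀ :=
    (Cs X₀).mul_mem (h.le_Cs k.cx.right hy) (c.le_Cs hy3)
  have ht4 : y * (b * y * b) ∈ Cs (cj e X₀) := by
    have := (conj_mem_cj (g := e)).2 ht0
    rwa [mem_Cs.1 ht e he, mul_inv_cancel_right, cj_Cs] at this
  obtain ⟨a, ha, ha1⟩ := h.exists_ne q.right
  have hta := mem_Cs.1 ht4 a (Om_le ha)
  have e1 : ⁅b * y * b, a⁆ = ⁅y⁻¹, a⁆ := by
    rw [commutatorElement_def, commutatorElement_def]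
    calc b * y * b * a * (b * y * b)⁻¹ * a⁻¹
        = y⁻¹ * (y * (b * y * b) * a) * (y * (b * y * b))⁻¹ * y * a⁻¹ := by group
      _ = _ := by rw [← hta]; group
  have m0 : ⁅y⁻¹, a⁆ ∈ Om X₀ := q.quad h (X₀.inv_mem hy) ha
  have n1 : ⁅y⁻¹, a⁆ ≠ 1 := fun z => ha1 (q.inj h (X₀.inv_mem hy)
    (fun z' => hy2 (by rw [← inv_eq_one, mul_inv_rev, z'])) ha
    (commutatorElement_eq_one_iff_mul_comm.1 z))
  rcases h.tri_nb c3 c4 with r | r | r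
  · exact k.ne_cj h hb he hbe r
  · exact n1 (e1 ▸ commutatorElement_eq_one_iff_mul_comm.2 (r.comm _ hy3 _ (Om_le ha)))
  · exact n1 (h.ti c.left c.right c.ne (Om_le m0) (e1 ▸ Om_le (r.quad h hy3 ha)))

theorem ep_cj (h : Sy S) (k : KC S X₀ X₁ Y₀ Y₁) (hb : b ∈ Om Y₀) (h1 : b ≠ 1) :
    Ep S X₀ (cj b X₀) := by
  rcases h.tri_nb k.cx (k.cx.cj_right h (k.mem_Ns h hb)) with q | c | q
  · exact absurd (by rw [cj_one]; exact q) (k.ne_cj h (Om Y₀).one_mem hb h1.symm)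
  swap
  · exact q
  exfalso
  have hU : ∀ p ∈ ncl X₀ (Om Y₀), ∀ q ∈ ncl X₀ (Om Y₀), p * q = q * p :=
    comm_ncl fun g hg x hx y hy => by
      by_cases hg1 : g = 1
      · simpa [hg1] using h.comm k.cx.right hx hy
      · exact (k.cm_all h hb h1 c hg hg1).comm x hx _ (conj_mem_cj.2 hy)
  obtain ⟨a, ha, ha1, hab⟩ := h.exists_third k.cy.right b
  obtain ⟨y, hy, hy2⟩ := h.nel k.cx.right
  have hab' : a * b ∈ Om Y₀ := (Om Y₀).mul_mem ha hb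
  have hab1 : a * b ≠ 1 := fun z => hab (by
    rw [eq_inv_of_mul_eq_one_left z, inv_eq_of_sq (h.sq k.cy.right hb)])
  have := fgc hU (le_Ns_ncl ha) (le_Ns_ncl hb) (h.sq k.cy.right ha) (h.sq k.cy.right hb)
    (h.comm k.cy.right (Om_le ha) (Om_le hb)) (le_ncl' hy)
    (mem_Cs.1 (k.t_mem h ha ha1 (k.cm_all h hb h1 c ha ha1) hy) b hb).symm
    (mem_Cs.1 (k.t_mem h hab' hab1 (k.cm_all h hb h1 c hab' hab1) hy) b hb).symm
  exact hy2 (k.nx h (X₀.mul_mem hy hy) (h.mem_Ns_of_comm k.cy.right (Om_le hb) h1 this))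

theorem ne_one (h : Sy S) (k : KC S X₀ X₁ Y₀ Y₁) (ha : a ∈ Om X₀) (hb : b ∈ Om Y₀)
    (hn : a * b ≠ b * a) : a * b * a * b ≠ 1 := fun z => hn (by
  have h1 := h.sq k.cx.right ha
  have h2 := h.sq k.cy.right hb
  calc a * b = (a * b)⁻¹ := eq_inv_of_mul_eq_one_left (by rw [← mul_assoc, z])
    _ = b * a := by rw [mul_inv_rev, inv_eq_of_sq h1, inv_eq_of_sq h2])

/-- The point `Z` attached to an involution of `Y₀`. -/
theorem k1 (h : Sy S) (k : KC S X₀ X₁ Y₀ Y₁) (hb : b ∈ Om Y₀) (h1 : b ≠ 1) :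
    ∃ Z, Cm S X₁ Z ∧ Ep S Z X₀ ∧ Ep S Z Y₀ ∧
      (∃ η ∈ Z, η * η ≠ 1 ∧ η * b ∈ Cs (Om X₀) ∧ b * η * b = η⁻¹) ∧
      ∀ a ∈ Om X₀, a * b * a * b ∈ Z := by
  have hb2 := h.sq k.cy.right hb
  obtain ⟨g, hg, η, hη, hη2, hw, a, ha, hab, hz⟩ := (k.ep_cj h hb h1).sw h hb2 rfl
  have hg' : g ∈ Ns X₁ :=
    (sup_le (k.cx.le_Cs.trans Cs_le_Ns) (zpowers_le.2 (k.mem_Ns h hb)) : _ ≤ Ns X₁) hg
  have cz := k.cx.cj_right h hg'
  generalize cj g X₀ = Z at hη hz cz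
  have hZ := cz.right
  have hn : η ∉ Ns X₀ := fun c => h1 (k.symm.nx h (Om_le hb) (by
    simpa using (Ns X₀).mul_mem ((Ns X₀).inv_mem c) hw))
  have ex : Ep S Z X₀ := by
    rcases h.tri_nb cz k.cx with q | q | q
    · exact absurd (le_normalizer (q ▸ hη)) hn
    · exact absurd (Cs_le_Ns (q.symm.le_Cs hη)) hn
    · exact q
  have hbZ : b ∉ Cs Z := fun c => by
    obtain ⟨α, hα, hc⟩ := ex.nc h ((Cs Z).mul_mem (h.le_Cs hZ hη) c) hw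
    apply hη2
    refine ex.eq_one h (Z.mul_mem hη hη) ?_
    have e1 := mem_Cs.1 c η hη
    have e2 := mem_Cs.1 c α (Om_le hα)
    have e3 := h.comm hZ (Om_le hα) hη
    have : η * η = η * b * α * (η * b * α) := by
      calc η * η = η * (b * b) * η * (α * α) := by rw [hb2, h.sq hZ hα]; group
        _ = η * b * (b * η) * α * α := by group
        _ = η * b * η * (b * α) * α := by rw [← e1]; group
        _ = η * b * (η * α) * b * α := by rw [← e2]; group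
        _ = _ := by rw [← e3]; group
    rw [this]
    exact Cs_anti le_sup_right ((Cs _).mul_mem hc hc)
  have hY1 : a * b * a * b ∈ Cs Y₁ := by
    have := (Cs Y₁).inv_mem (k.symm.conj_Cs h ha (Om_le hb))
    simpa only [mul_inv_rev, inv_eq_of_sq hb2, inv_eq_of_sq (h.sq k.cx.right ha), ← mul_assoc]
      using this
  have cy : Cm S Y₁ Z := (h.cm_of_cent k.cy.left hZ hz (k.ne_one h ha hb hab) hY1).resolve_left
    fun q => hbZ (q ▸ k.cy.le_Cs (Om_le hb))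
  have ey : Ep S Z Y₀ := by
    rcases h.tri_nb cy k.cy with q | q | q
    · exact absurd (h.le_Cs hZ (q ▸ Om_le hb)) hbZ
    · exact absurd (q.le_Cs (Om_le hb)) hbZ
    · exact q
  have hq := ey.quad h hη hb
  obtain ⟨w1, -, w2⟩ := ex.one h hw ((Cs _).mul_mem (Cs_anti Om_le (h.le_Cs hZ hη))
    (mem_Cs.2 fun u hu => ey.comm h hu hb)) hη hη2 (by
      have : ⁅η, η * b⁆ = η * ⁅η, b⁆ * η⁻¹ := by
        rw [commutatorElement_def, commutatorElement_def]; group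
      rw [this, h.comm hZ hη (Om_le hq), mul_inv_cancel_right]
      exact hq)
  have hbη : b * η * b ∈ Z := by
    have := mem_normalizer_conj (ey.symm.le_Ns h hb) hη
    rwa [inv_eq_of_sq hb2] at this
  have w3 : η * (b * η * b) = 1 := ex.eq_one h (Z.mul_mem hη hbη) (by
    simpa only [mul_assoc] using w2)
  refine ⟨Z, cz, ex, ey, ⟨η, hη, hη2, w1, eq_inv_of_mul_eq_one_right w3⟩, fun u hu => ?_⟩
  have hu2 := h.sq k.cx.right hu
  have e1 := mem_Cs.1 w1 u hu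
  have : u * b * u * b = u * η⁻¹ * u⁻¹ * η := by
    rw [inv_eq_of_sq hu2]
    calc u * b * u * b = u * η⁻¹ * (η * b * u) * b := by group
      _ = u * η⁻¹ * u * η * (b * b) := by rw [← e1]; group
      _ = _ := by rw [hb2, mul_one]
  rw [this]
  exact Z.mul_mem (mem_normalizer_conj (ex.symm.le_Ns h hu) (Z.inv_mem hη)) hη

theorem exists_gt (h : Sy S) (k : KC S X₀ X₁ Y₀ Y₁) : ∃ Z, Cm S X₁ Z ∧ GT S Z X₀ Y₀ := by
  have key : ∀ {a b : G} {Z Z' : Subgroup G}, a ∈ Om X₀ → a ≠ 1 → b ∈ Om Y₀ → b ≠ 1 → Z ∈ S →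
      Z' ∈ S → a * b * a * b ∈ Z → b * a * b * a ∈ Z' → Z = Z' :=
    fun {a b Z Z'} ha ha1 hb hb1 hZ hZ' m m' => by
      refine h.eq_of_mem hZ hZ' m ?_ (k.ne_one h ha hb fun c =>
        ha1 (k.nx h (Om_le ha) (h.mem_Ns_of_comm k.cy.right (Om_le hb) hb1 c)))
      simpa only [mul_inv_rev, inv_eq_of_sq (h.sq k.cy.right hb),
        inv_eq_of_sq (h.sq k.cx.right ha), ← mul_assoc] using Z'.inv_mem m'
  obtain ⟨a₀, ha₀, ha1⟩ := h.exists_ne k.cx.right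
  obtain ⟨b₀, hb₀, hb1⟩ := h.exists_ne k.cy.right
  obtain ⟨Z, cz, ex, ey, -, hz⟩ := k.k1 h hb₀ hb1
  refine ⟨Z, cz, ex, ey, fun a ha h1 => ?_, fun b hb h1 => ?_⟩
  · obtain ⟨Z', cz', -, -, p, hz'⟩ := k.symm.k1 h ha h1
    rwa [key ha h1 hb₀ hb1 cz.right cz'.right (hz a ha) (hz' b₀ hb₀)]
  · obtain ⟨Z', cz', -, -, -, hz'⟩ := k.symm.k1 h ha₀ ha1
    obtain ⟨Z'', cz'', -, -, p, hz''⟩ := k.k1 h hb h1
    rwa [key ha₀ ha1 hb₀ hb1 cz.right cz'.right (hz a₀ ha₀) (hz' b₀ hb₀),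
      ← key ha₀ ha1 hb h1 cz''.right cz'.right (hz'' a₀ ha₀) (hz' b hb)]

theorem false (h : Sy S) (k : KC S X₀ X₁ Y₀ Y₁) : False := by
  obtain ⟨Z, cz, t⟩ := k.exists_gt h
  have hf := t.full h
  have hZ := cz.right
  obtain ⟨η, hη, hη2⟩ := h.nel hZ
  obtain ⟨η₂, hη₂, p1, p2⟩ := h.exists_two hf hZ hη hη2
  obtain ⟨a, ha, ha1, hai⟩ := t.l.exists_inv h hη hη2
  obtain ⟨b, hb, hb1, hbi⟩ := t.r.exists_inv h hη hη2
  obtain ⟨α, hα, hρ⟩ := t.rho h hη hη2 ha hb hai hbi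
  obtain ⟨κ, hκ, κZ, κX, -, κ2⟩ := t.l.ht h hη hη2 hη₂ p1
  have ha2 := h.sq k.cx.right ha
  have hb2 := h.sq k.cy.right hb
  have κ1 : κ ∈ Cs X₁ := (sup_le cz.le_Cs k.cx.le_Cs : _ ≤ Cs X₁) hκ
  have OZY : Om Z ≤ Cs (Om Y₀) := fun u hu => mem_Cs.2 fun v hv => (t.r.comm h hu hv).symm
  have c1 : η * b ∈ Cs (Om X₀) := t.cent h hη hη2 hb hbi
  have c2 : η * a ∈ Cs (Om Y₀) := t.symm.cent h hη hη2 ha hai
  have ρY : η * b * a * α ∈ Cs (Om Y₀) := by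
    have e1 := mem_Cs.1 c2 b hb
    have e2 : η * b * a = η * η * (η * a) * b := by
      calc η * b * a = η * η * (b * η * b) * (b * η * b) * η * b * a := by rw [hbi]; group
        _ = η * η * (b * η * b) * b * (η * b * η) * b * a := by group
        _ = η * η * (b * η * b) * b * b * b * a := by
            rw [show η * b * η = b from by
              calc η * b * η = η * (b * η * b) * b⁻¹ := by group
                _ = b := by rw [hbi, inv_eq_of_sq hb2]; group]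
        _ = η * η * (b * (η * a)) * (a⁻¹ * (b * b) * (b * b) * a) := by group
        _ = _ := by rw [e1, hb2]; group
    rw [e2]
    exact (Cs _).mul_mem ((Cs _).mul_mem ((Cs _).mul_mem (OZY (t.l.sq_mem h hη)) c2)
      (Cs_anti Om_le (h.le_Cs k.cy.right (Om_le hb)))) (OZY hα)
  have hη' : κ * η * κ⁻¹ ∈ Z := mem_normalizer_conj κZ hη
  have sq' : κ * η * κ⁻¹ * (κ * η * κ⁻¹) = η₂ * η₂ := by rw [← κ2]; group
  have c3 : (κ * η * κ⁻¹)⁻¹ * (κ * a * κ⁻¹) ∈ Cs (Om Y₀) := by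
    refine t.symm.cent h (Z.inv_mem hη') (fun z => p1 ?_)
      (mem_normalizer_conj (Ns_le_Ns_Om κX) ha) ?_
    · rw [← sq', ← inv_eq_one, mul_inv_rev, z]
    · calc κ * a * κ⁻¹ * (κ * η * κ⁻¹)⁻¹ * (κ * a * κ⁻¹) = κ * (a * η⁻¹ * a) * κ⁻¹ := by group
        _ = κ * (a * a * η * (a * a)) * κ⁻¹ := by rw [← hai]; group
        _ = _ := by rw [ha2]; group
  have xY : κ * b * κ⁻¹ ∈ Cs (Om Y₀) := by
    have e1 := mem_Cs.1 hρ κ hκ
    have e2 := mem_Cs.1 hρ _ (mem_sup_left hη')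
    have e3 := h.comm hZ hη' (mem_normalizer_conj κZ (Om_le hα))
    have : κ * b * κ⁻¹ = η * b * a * α * (κ * α * κ⁻¹)⁻¹ * ((κ * η * κ⁻¹)⁻¹ * (κ * a * κ⁻¹)) := by
      generalize hr : η * b * a * α = ρ at e1 e2
      have hb' : b = η⁻¹ * ρ * α⁻¹ * a := by
        rw [← hr]
        calc b = b * (a * a) := by rw [ha2, mul_one]
          _ = _ := by group
      calc κ * b * κ⁻¹ = (κ * η * κ⁻¹)⁻¹ * (κ * ρ) * κ⁻¹ * (κ * α * κ⁻¹)⁻¹ * (κ * a * κ⁻¹) := by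
            rw [hb']; group
        _ = (κ * η * κ⁻¹)⁻¹ * (ρ * (κ * η * κ⁻¹)) * (κ * α * κ⁻¹ * (κ * η * κ⁻¹))⁻¹ *
              (κ * a * κ⁻¹) := by rw [e1]; group
        _ = _ := by rw [← e2, ← e3]; group
    rw [this]
    exact (Cs _).mul_mem ((Cs _).mul_mem ρY ((Cs _).inv_mem
      (OZY (mem_normalizer_conj (Ns_le_Ns_Om κZ) hα)))) c3
  have wX : κ * b * κ⁻¹ * b ∈ Cs X₁ := by
    have := conj_mem_Cs (k.mem_Ns h hb) ((Cs X₁).inv_mem κ1)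
    rw [inv_eq_of_sq hb2] at this
    simpa only [mul_assoc] using (Cs X₁).mul_mem κ1 this
  have wY : κ * b * κ⁻¹ * b ∈ Ns Y₀ := h.mem_Ns_of_comm k.cy.right (Om_le hb) hb1 (by
    rw [← mul_assoc b, mem_Cs.1 xY b hb])
  obtain ⟨a₁, ha₁, hw⟩ := (k.ep h).nc h wX wY
  obtain ⟨g, hg, ha₃⟩ := (k.ep h).part' h hf
    (((k.ep h).mem_Nb h).2 ⟨a₁, ha₁, b, hb, rfl⟩)
  have eg : g * (κ * b * κ⁻¹) * g⁻¹ = κ * b * κ⁻¹ * b * a₁ * (g * (a₁ * b) * g⁻¹) := by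
    have e1 := mem_Cs.1 hw g hg
    calc g * (κ * b * κ⁻¹) * g⁻¹ = g * (κ * b * κ⁻¹ * (b * (a₁ * a₁) * b)) * g⁻¹ := by
          rw [h.sq k.cx.left ha₁, mul_one, hb2, mul_one]
      _ = g * (κ * b * κ⁻¹ * b * a₁) * (a₁ * b) * g⁻¹ := by group
      _ = _ := by rw [e1]; group
  have hR := h.conj (h.conj k.cy.right κ) g
  have mR : g * (κ * b * κ⁻¹) * g⁻¹ ∈ Om (cj g (cj κ Y₀)) := by
    rw [← cj_Om, ← cj_Om]
    exact conj_mem_cj.2 (conj_mem_cj.2 hb)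
  have cR := h.cm_of_cent k.cx.left hR (Om_le mR) (by simpa using hb1) (by
    rw [eg]
    exact (Cs X₁).mul_mem (Cs_anti le_sup_left hw) (h.le_Cs k.cx.left (Om_le ha₃)))
  have X1 : X₁ ≤ Cs (Om X₀) := k.cx.symm.le_Cs.trans (Cs_anti Om_le)
  have w0 : κ * b * κ⁻¹ * b ∈ Cs (Om X₀) := by
    have : g * (κ * b * κ⁻¹) * g⁻¹ ∈ Cs (Om X₀) :=
      mem_Cs.2 fun u hu => h.vc k.cx.left (.inr k.cx) cR hu mR
    rw [eg] at this
    exact ((Cs _).mul_mem_cancel_right (X1 (Om_le ha₁))).1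
      (((Cs _).mul_mem_cancel_right (X1 (Om_le ha₃))).1 this)
  have c4 := conj_mem_Cs (Ns_le_Ns_Om κX) c1
  have fin : κ * η * κ⁻¹ * η⁻¹ ∈ Cs (Om X₀) := by
    have : κ * η * κ⁻¹ * η⁻¹ = κ * (η * b) * κ⁻¹ * (κ * b * κ⁻¹ * b) * (η * b)⁻¹ := by
      calc κ * η * κ⁻¹ * η⁻¹ = κ * η * (b * b) * κ⁻¹ * η⁻¹ := by rw [hb2]; group
        _ = _ := by group
    rw [this]
    exact (Cs _).mul_mem ((Cs _).mul_mem c4 w0) ((Cs _).inv_mem c1)
  refine ha1 (t.l.inj h (Z.mul_mem hη' (Z.inv_mem hη)) (fun z => p2 ?_) ha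
    (mem_Cs.1 fin a ha).symm)
  have e1 := h.comm hZ hη' hη
  generalize κ * η * κ⁻¹ = θ at sq' z e1
  have e2 : η⁻¹ * θ = θ * η⁻¹ := by
    calc η⁻¹ * θ = η⁻¹ * (θ * η) * η⁻¹ := by group
      _ = _ := by rw [e1]; group
  calc η₂ * η₂ = θ * (θ * η⁻¹) * η⁻¹ * (η * η) := by rw [← sq']; group
    _ = θ * η⁻¹ * (θ * η⁻¹) * (η * η) := by nth_rewrite 1 [← e2]; group
    _ = η * η := by rw [z, one_mul]

end KC

theorem Pth.comm (h : Sy S) {n : ℕ} (p : Pth S n X Y) :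
    ∀ a ∈ Om X, ∀ b ∈ Om Y, a * b = b * a := by
  induction n generalizing X Y with
  | zero => exact fun a ha b hb => h.comm p.1 (Om_le ha) (p.2 ▸ Om_le hb)
  | succ n ih =>
    by_contra no
    obtain ⟨V, q, d⟩ := p.snoc
    obtain ⟨W, c, p⟩ := p
    exact KC.false h ⟨c.symm, d, ih p, fun a ha b hb => (ih q b hb a ha).symm, no⟩

theorem Sy.noC (h : Sy S) : NoC S := fun P P' c => by
  let F : Subgroup G → Subgroup G := fun R => ⨆ (X : Subgroup G) (_ : ∃ n, Pth S n R X), Om X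
  have le : ∀ {R X : Subgroup G} {n : ℕ}, Pth S n R X → Om X ≤ F R := fun {R X n} p =>
    le_iSup₂_of_le (f := fun (X : Subgroup G) (_ : ∃ n, Pth S n R X) => Om X) X ⟨n, p⟩ le_rfl
  have key : ∀ (g : G) (R : Subgroup G), cj g (F R) ≤ F (cj g R) := fun g R => by
    rw [cj_le_iff_le_cj_inv]
    refine iSup₂_le fun X ⟨n, p⟩ => ?_
    rw [← cj_le_iff_le_cj_inv, cj_Om]
    exact le (p.conj h g)
  obtain ⟨a, ha, ha1⟩ := h.exists_ne c.left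
  refine c.ne (h.block F (fun g R _ => (key g R).antisymm' ?_) c.left c.right
    (iSup₂_le fun X ⟨n, p⟩ => le (n := n + 1) ⟨P, c.symm, p⟩) (le (n := 0) ⟨c.left, rfl⟩ ha)
    ?_ ha1 (h.sq c.left ha))
  · have := key g⁻¹ (cj g R)
    rwa [cj_inv_cj, cj_inv_le_iff_le_cj] at this
  · have : F P ≤ C1 a := iSup₂_le fun X ⟨n, p⟩ b hb => mem_C1.2 (p.comm h a ha b hb).symm
    exact mem_Cs.2 fun u hu => mem_C1.1 (this hu)

end Cfsg.Lib.TIB
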