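import Cfsg.Agent.TIB.Pair

/-! # TIB: the calculus of `Ep` pairs -/

set_option autoImplicit false

namespace Cfsg.Lib.TIB

open Subgroup Cfsg.Lib.Trans Cfsg.Lib.Gold Cfsg.Lib.TIM
open scoped commutatorElement

variable {G : Type*} [Group G] {S : Set (Subgroup G)}
  {P P' X U : Subgroup G} {a b c g x y w : G}

/-- An automorphism of 2-power order with the same fixed points as its square is trivial. -/
theorem cent_of_sq [Finite G] (hU : IsPGroup 2 U) (hc : ∀ p ∈ U, ∀ q ∈ U, p * q = q * p)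
    (hg : IsPGroup 2 (zpowers g)) (hn : g ∈ Ns U)
    (h : ∀ p ∈ U, p * (g * g) = g * g * p → p * g = g * p) (hx : x ∈ U) : x * g = g * x := by
  by_contra hne
  obtain ⟨u, hu, hu1, hu2⟩ := exists_fix_mod (V := U ⊓ C1 g) hg hU (zpowers_le.2 hn)
    fun e => hne (mem_C1.1 (e hx).2)
  have h1 := mem_C1.1 (hu2 g (mem_zpowers g)).2
  have h2 : ⁅u, g⁆ ≠ 1 := fun e => hu1 ⟨hu, mem_C1.2 (commutatorElement_eq_one_iff_mul_comm.1 e)⟩
  have h3 : g * u⁻¹ * g⁻¹ = u⁻¹ * ⁅u, g⁆ := by rw [commutatorElement_def]; group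
  have hm := (hu2 g (mem_zpowers g)).1
  obtain ⟨k, hk⟩ := hU ⟨_, hm⟩
  have hk' : ⁅u, g⁆ ^ 2 ^ k = 1 := congrArg Subtype.val hk
  have hv := inv_mem hu
  generalize ⁅u, g⁆ = c at h1 h2 h3 hk' hm
  generalize u⁻¹ = v at h3 hv
  clear hk hu1 hu2 hu
  induction k generalizing c v with
  | zero => exact h2 (by simpa using hk')
  | succ k ih =>
    by_cases h4 : c * c = 1
    · have := h v hv (by
        have h5 : g * v = v * c * g := by rw [← h3, inv_mul_cancel_right]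
        calc v * (g * g) = v * (c * c) * (g * g) := by rw [h4, mul_one]
          _ = v * c * (c * g) * g := by group
          _ = v * c * (g * c) * g := by rw [h1]
          _ = v * c * g * (c * g) := by group
          _ = g * v * (c * g) := by rw [h5]
          _ = g * (v * c * g) := by group
          _ = _ := by rw [← h5, mul_assoc])
      rw [← this, mul_inv_cancel_right, left_eq_mul] at h3
      exact h2 h3
    · refine ih (c * c) (by rw [mul_assoc, h1, ← mul_assoc, h1, mul_assoc]) h4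
        (by rw [← pow_two, ← pow_mul, ← pow_succ', hk']) (mul_mem hm hm) (v * v) ?_ (mul_mem hv hv)
      calc g * (v * v) * g⁻¹ = g * v * g⁻¹ * (g * v * g⁻¹) := by group
        _ = v * (c * v) * c := by rw [h3]; group
        _ = _ := by rw [hc c hm v hv]; group

/-- Lemma (P). -/
theorem Sy.cm_of_pgroup [Finite G] (h : Sy S) (hP : P ∈ S) (hP' : P' ∈ S) (hU : IsPGroup 2 U)
    (hx : x ∈ P) (hy : y ∈ P') (hx2 : x * x ≠ 1) (hy2 : y * y ≠ 1) (hxU : x ∈ U) (hyU : y ∈ U) :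
    P = P' ∨ Cm S P P' := by
  have x1 : x ≠ 1 := fun e => hx2 (by rw [e, mul_one])
  by_cases hc : y ∈ C1 x
  · exact (h.cases_of_nsq hP' hP hy hy2 (h.mem_Ns_of_comm hP hx x1 (mem_C1.1 hc))).imp Eq.symm
      Cm.symm
  obtain ⟨v, ⟨hvU, v2, R, hR, hv⟩, hvn, hvc⟩ := chain (H := C1 x) hU
    (W := {w | w ∈ U ∧ w * w ≠ 1 ∧ ∃ R ∈ S, w ∈ R}) (fun _ hw => hw.1)
    (fun u hu w ⟨h1, h2, R, hR, h3⟩ => ⟨mul_mem (mul_mem hu h1) (inv_mem hu),
      fun e => h2 (by rw [conj_mul'] at e; simpa using e), _, h.conj hR u, conj_mem_cj.2 h3⟩)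
    ⟨hyU, hy2, P', hP', hy⟩ hc
  have k : ∀ n : ℕ, v ^ n * x * (v ^ n)⁻¹ ∈ C1 x := fun n => by
    induction n with
    | zero => simp [mem_C1]
    | succ n ih =>
      have := hvc _ ⟨mul_mem (mul_mem (pow_mem hvU n) hxU) (inv_mem (pow_mem hvU n)),
        fun e => hx2 (by rw [conj_mul'] at e; simpa using e), _, h.conj hP _, conj_mem_cj.2 hx⟩ ih
      convert this using 1
      rw [pow_succ']
      group
  have hW : ∀ p ∈ ncl (zpowers x) (zpowers v), ∀ q ∈ ncl (zpowers x) (zpowers v), p * q = q * p := by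
    refine comm_ncl fun g hg => ?_
    obtain ⟨n, rfl⟩ := (mem_powers_iff_mem_zpowers.2 hg : g ∈ Submonoid.powers v)
    rintro _ ⟨i, rfl⟩ _ ⟨j, rfl⟩
    have : Commute (v ^ n * x * (v ^ n)⁻¹) x := mem_C1.1 (k n)
    simpa only [conj_zpow] using (this.symm.zpow_zpow i j).eq
  have hle : ncl (zpowers x) (zpowers v) ≤ U := ncl_le_iff.2 fun g hg =>
    cj_le_of_mem_of_le (zpowers_le.2 hvU hg) (zpowers_le.2 hxU)
  have hxW : x ∈ ncl (zpowers x) (zpowers v) := le_ncl' (mem_zpowers x)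
  have hn : v ∈ Ns (ncl (zpowers x) (zpowers v)) := le_Ns_ncl (mem_zpowers v)
  refine (hvn (mem_C1.2 (cent_of_sq (hU.to_le hle) hW (hU.to_le (zpowers_le.2 hvU)) hn
    (fun p hp e => ?_) hxW).symm)).elim
  by_contra hne
  have m := comm_mem_right (h.mem_Ns_of_comm hR (mul_mem hv hv) v2 e) hv
  rcases h.cases_of_nsq hP hR hx hx2 (h.mem_Ns_of_comm hR m
    (fun q => hne (commutatorElement_eq_one_iff_mul_comm.1 q))
    (hW x hxW _ (comm_mem_left hn hp))) with rfl | c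
  · exact hvn (mem_C1.2 (h.comm hP hv hx))
  · exact hvn (mem_C1.2 (c.comm x hx v hv).symm)

namespace Ep

theorem nm_eq (h : Sy S) (e : Ep S P P') : Nm P P' = Om P := by
  ext x
  rw [h.mem_Om e.left]
  exact and_congr_right fun hx => e.nm x hx

theorem nn_eq (h : Sy S) (e : Ep S P P') : NN P P' = Nb P P' := by
  rw [NN, e.nm_eq h, e.symm.nm_eq h]

theorem qp (h : Sy S) (e : Ep S P P') : QP S P P' := by
  obtain ⟨a, ha, h1⟩ := h.exists_ne e.left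
  exact h.qp e.left e.right e.ne (fun x hx => (e.nm x hx.1).1 hx.2)
    (fun x hx => (e.nm' x hx.1).1 hx.2) (e.nm_eq h ▸ ha) h1

theorem not_mem (e : Ep S P P') (hy : y ∈ P) (h2 : y * y ≠ 1) : y ∉ Nm P P' :=
  fun q => h2 ((e.nm y hy).1 q.2)

theorem comm (h : Sy S) (e : Ep S P P') (ha : a ∈ Om P) (hb : b ∈ Om P') : a * b = b * a :=
  h.Nm_comm e.left e.right e.ne (e.nm_eq h ▸ ha) (e.symm.nm_eq h ▸ hb)

theorem le_Ns (h : Sy S) (e : Ep S P P') : Om P ≤ Ns P' := fun x hx =>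
  (e.nm x (Om_le hx)).2 (h.sq e.left hx)

theorem quad (h : Sy S) (e : Ep S P P') (hy : y ∈ P) (hb : b ∈ Om P') : ⁅y, b⁆ ∈ Om P :=
  e.nm_eq h ▸ (e.qp h).quad y hy b (e.symm.nm_eq h ▸ hb)

theorem sq_mem (h : Sy S) (e : Ep S P P') (hy : y ∈ P) : y * y ∈ Om P :=
  e.nm_eq h ▸ (e.qp h).sq y hy

theorem inj (h : Sy S) (e : Ep S P P') (hy : y ∈ P) (h2 : y * y ≠ 1) (hb : b ∈ Om P')
    (hc : y * b = b * y) : b = 1 :=
  by_contra fun h1 => h2 ((e.nm y hy).1 (h.mem_Ns_of_comm e.right (Om_le hb) h1 hc))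

theorem eq_one (h : Sy S) (e : Ep S P P') (hx : x ∈ P) (hc : x ∈ Cs P') : x = 1 := by
  obtain ⟨y, hy, h2⟩ := h.nel e.right
  exact e.symm.inj h hy h2 (mem_Om_of hx ((e.nm x hx).1 (Cs_le_Ns hc))) (mem_Cs.1 hc y hy)

theorem comm_mul (h : Sy S) (e : Ep S P P') (hy : y ∈ P) (hb : b ∈ Om P') (hc : c ∈ Om P') :
    ⁅y, b * c⁆ = ⁅y, b⁆ * ⁅y, c⁆ := by
  have : ⁅y, b * c⁆ = ⁅y, b⁆ * (b * ⁅y, c⁆ * b⁻¹) := by simp only [commutatorElement_def]; group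
  rw [this, ← e.comm h (e.quad h hy hc) hb, mul_inv_cancel_right]

theorem card_Om (h : Sy S) (hP : P ∈ S) (hP' : P' ∈ S) : Nat.card (Om P) = Nat.card (Om P') := by
  obtain ⟨g, rfl⟩ := h.trans hP hP'
  rw [← cj_Om, card_cj]

theorem surj [Finite G] (h : Sy S) (e : Ep S P P') (hy : y ∈ P) (h2 : y * y ≠ 1) (ha : a ∈ Om P) :
    ∃ b ∈ Om P', ⁅y, b⁆ = a := by
  let f : Om P' →* Om P := MonoidHom.mk' (fun b => ⟨⁅y, b.1⁆, e.quad h hy b.2⟩) fun b c =>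
    Subtype.ext (e.comm_mul h hy b.2 c.2)
  have hf : Function.Injective f := (injective_iff_map_eq_one f).2 fun b hb => Subtype.ext
    (e.inj h hy h2 b.2 (commutatorElement_eq_one_iff_mul_comm.1 (congrArg Subtype.val hb)))
  obtain ⟨b, hb⟩ := ((Nat.bijective_iff_injective_and_card f).2
    ⟨hf, card_Om h e.right e.left⟩).2 ⟨a, ha⟩
  exact ⟨b, b.2, congrArg Subtype.val hb⟩

theorem inv_iff (hb : b * b = 1) : b * y * b = y⁻¹ ↔ ⁅y, b⁆ = y * y := by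
  rw [commutatorElement_def, inv_eq_of_mul_eq_one_right hb]
  constructor
  · intro e
    calc y * b * y⁻¹ * b = y * (b * b) * y * (b * b) := by rw [← e]; group
      _ = _ := by rw [hb]; group
  · intro e
    have e1 : b * y⁻¹ * b = y := mul_left_cancel (a := y) (by rw [← e]; group)
    calc b * y * b = b * (b * y⁻¹ * b) * b := by rw [e1]
      _ = b * b * y⁻¹ * (b * b) := by group
      _ = _ := by rw [hb]; group

theorem exists_inv [Finite G] (h : Sy S) (e : Ep S P P') (hy : y ∈ P) (h2 : y * y ≠ 1) :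
    ∃ b ∈ Om P', b ≠ 1 ∧ b * y * b = y⁻¹ := by
  obtain ⟨b, hb, h1⟩ := e.surj h hy h2 (e.sq_mem h hy)
  exact ⟨b, hb, fun q => h2 (by rw [← h1, q, commutatorElement_one_right]),
    (inv_iff (h.sq e.right hb)).2 h1⟩

theorem comm_inj (h : Sy S) (e : Ep S P P') (hy : y ∈ P) (h2 : y * y ≠ 1) (hb : b ∈ Om P')
    (hc : c ∈ Om P') (h1 : ⁅y, b⁆ = ⁅y, c⁆) : b = c := by
  have := e.inj h hy h2 (mul_mem hb hc) (commutatorElement_eq_one_iff_mul_comm.1 (by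
    rw [e.comm_mul h hy hb hc, h1, h.sq e.left (e.quad h hy hc)]))
  rw [eq_inv_of_mul_eq_one_left this, inv_eq_of_mul_eq_one_right (h.sq e.right hc)]

theorem inv_uniq (h : Sy S) (e : Ep S P P') (hy : y ∈ P) (h2 : y * y ≠ 1) (hb : b ∈ Om P')
    (hc : c ∈ Om P') (h1 : b * y * b = y⁻¹) (h3 : c * y * c = y⁻¹) : b = c :=
  e.comm_inj h hy h2 hb hc
    (((inv_iff (h.sq e.right hb)).1 h1).trans ((inv_iff (h.sq e.right hc)).1 h3).symm)

theorem mem_Nb (h : Sy S) (e : Ep S P P') :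
    x ∈ Nb P P' ↔ ∃ a ∈ Om P, ∃ b ∈ Om P', x = a * b := by
  rw [← e.nn_eq h, h.mem_NN e.left e.right e.ne, e.nm_eq h, e.symm.nm_eq h]

theorem comm_Nb (h : Sy S) (e : Ep S P P') (hx : x ∈ Nb P P') (hy : y ∈ Nb P P') :
    x * y = y * x :=
  h.NN_mul_comm e.left e.right e.ne (e.nn_eq h ▸ hx) (e.nn_eq h ▸ hy)

theorem sq_Nb (h : Sy S) (e : Ep S P P') (hx : x ∈ Nb P P') : x * x = 1 := by
  obtain ⟨a, ha, b, hb, rfl⟩ := (e.mem_Nb h).1 hx
  calc a * b * (a * b) = a * (b * a) * b := by group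
    _ = a * a * (b * b) := by rw [← e.comm h ha hb]; group
    _ = 1 := by rw [h.sq e.left ha, h.sq e.right hb, mul_one]

theorem le_Ns_Nb [Finite G] (h : Sy S) (e : Ep S P P') : P ⊔ P' ≤ Ns (Nb P P') :=
  e.nn_eq h ▸ h.le_Ns_NN (e.qp h)

theorem mem_Tb (h : Sy S) (e : Ep S P P') :
    x ∈ Tb P P' ↔ ∃ y ∈ P, ∃ b ∈ Om P', x = y * b := by
  refine ⟨fun hx => ?_, ?_⟩
  · have : x ∈ ((P ⊔ Om P' : Subgroup G) : Set G) := hx
    rw [coe_mul_of_right_le_normalizer_left _ _ (e.symm.le_Ns h)] at this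
    obtain ⟨y, hy, b, hb, rfl⟩ := this
    exact ⟨y, hy, b, hb, rfl⟩
  · rintro ⟨y, hy, b, hb, rfl⟩
    exact mul_mem (mem_sup_left hy) (mem_sup_right hb)

theorem pgroup_Tb (h : Sy S) (e : Ep S P P') : IsPGroup 2 (Tb P P') :=
  Local.isPGroup_sup' (h.pgroup e.left) ((h.pgroup e.right).to_le Om_le) (e.symm.le_Ns h)

theorem Tb_le (h : Sy S) (e : Ep S P P') : Tb P P' ≤ Ns P := sup_le le_normalizer (e.symm.le_Ns h)

theorem card_sup (h : Sy S) (e : Ep S P P') (hU : U ≤ P)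
    (hm : ∀ x, x ∈ U ⊔ Om P' → ∃ y ∈ U, ∃ b ∈ Om P', x = y * b) :
    Nat.card (U ⊔ Om P' : Subgroup G) = Nat.card U * Nat.card (Om P) := by
  rw [card_Om h e.left e.right, ← Nat.card_prod]
  refine (Nat.card_congr (Equiv.ofBijective (fun p : U × Om P' =>
    (⟨p.1 * p.2, mul_mem (mem_sup_left p.1.2) (mem_sup_right p.2.2)⟩ : (U ⊔ Om P' : Subgroup G)))
    ⟨fun p q e1 => ?_, fun x => ?_⟩)).symm
  · have e2 : (p.1 : G) * p.2 = q.1 * q.2 := congrArg Subtype.val e1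
    have e3 : (q.1 : G)⁻¹ * p.1 = q.2 * (p.2 : G)⁻¹ := by
      rw [inv_mul_eq_iff_eq_mul, ← mul_assoc, ← e2, mul_inv_cancel_right]
    have e4 := h.ti e.left e.right e.ne (hU (mul_mem (inv_mem q.1.2) p.1.2))
      (e3 ▸ Om_le (mul_mem q.2.2 (inv_mem p.2.2)))
    exact Prod.ext (Subtype.ext (inv_mul_eq_one.1 e4).symm)
      (Subtype.ext (mul_inv_eq_one.1 (e3 ▸ e4)).symm)
  · obtain ⟨y, hy, b, hb, q⟩ := hm x x.2
    exact ⟨(⟨y, hy⟩, ⟨b, hb⟩), Subtype.ext q.symm⟩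

theorem card_Nb (h : Sy S) (e : Ep S P P') : Nat.card (Nb P P') = Nat.card (Om P) ^ 2 := by
  rw [e.card_sup h Om_le fun x hx => (e.mem_Nb h).1 hx, sq]

theorem card_Tb (h : Sy S) (e : Ep S P P') :
    Nat.card (Tb P P') = Nat.card P * Nat.card (Om P) :=
  e.card_sup h le_rfl fun _ hx => (e.mem_Tb h).1 hx

theorem card_of_hom (f : P →* Om P) (hf : ∀ x : P, f x = 1 ↔ x.1 ∈ Om P) :
    Nat.card P = Nat.card f.range * Nat.card (Om P) := by
  have : f.ker = (Om P).subgroupOf P := by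
    ext x
    exact hf x
  rw [card_eq_card_quotient_mul_card_subgroup f.ker,
    Nat.card_congr (QuotientGroup.quotientKerEquivRange f).toEquiv, this,
    Nat.card_congr (subgroupOfEquivOfLe Om_le).toEquiv]

theorem card_full (h : Sy S) (e : Ep S P P') (hf : Full S) :
    Nat.card P = Nat.card (Om P) ^ 2 := by
  let f : P →* Om P := MonoidHom.mk' (fun y => ⟨y * y, e.sq_mem h y.2⟩) fun y w => Subtype.ext (by
    show (y : G) * w * (y * w) = y * y * (w * w)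
    calc (y : G) * w * (y * w) = y * (w * y) * w := by group
      _ = _ := by rw [h.comm e.left w.2 y.2]; group)
  have : f.range = ⊤ := MonoidHom.range_eq_top.2 fun a => by
    obtain ⟨y, hy, q⟩ := hf P e.left a a.2
    exact ⟨⟨y, hy⟩, Subtype.ext q⟩
  rw [card_of_hom f fun x => ⟨fun q => mem_Om_of x.2 (congrArg Subtype.val q),
    fun q => Subtype.ext (h.sq e.left q)⟩, this, card_top, sq]

variable [Finite G]

theorem swap (h : Sy S) (e : Ep S P P') (hy : y ∈ P) (h2 : y * y ≠ 1) (hw : w ∈ P')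
    (h3 : w * w ≠ 1) : ∃ s ∈ zpowers y ⊔ zpowers w, cj s P = P' ∧ cj s P' = P ∧
      w⁻¹ * (s * y * s⁻¹) ∈ Om P' ∧ y⁻¹ * (s * w * s⁻¹) ∈ Om P := by
  have := h.swap (e.qp h) hy (e.not_mem hy h2) hw (e.symm.not_mem hw h3)
  rwa [e.nm_eq h, e.symm.nm_eq h] at this

omit [Finite G] in
theorem sq_eq (h : Sy S) (hP : P ∈ S) (hw : w ∈ P) (hx : w⁻¹ * x ∈ Om P) : x * x = w * w := by
  have h1 := h.comm hP hw (Om_le hx)
  calc x * x = w * (w⁻¹ * x * w) * (w⁻¹ * x) := by group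
    _ = w * w * (w⁻¹ * x * (w⁻¹ * x)) := by rw [← h1]; group
    _ = _ := by rw [h.sq hP hx, mul_one]

/-- Transitivity on `(P/Ω₁ P)#`. -/
theorem ht (h : Sy S) (e : Ep S P P') (hy : y ∈ P) (h2 : y * y ≠ 1) (hw : w ∈ P)
    (h3 : w * w ≠ 1) : ∃ k ∈ P ⊔ P', k ∈ Ns P ∧ k ∈ Ns P' ∧ w⁻¹ * (k * y * k⁻¹) ∈ Om P ∧
      k * (y * y) * k⁻¹ = w * w := by
  obtain ⟨v, hv, v2⟩ := h.nel e.right
  obtain ⟨s, hs, s1, s2, s3, -⟩ := e.swap h hy h2 hv v2
  obtain ⟨r, hr, r1, r2, -, r3⟩ := e.swap h hw h3 hv v2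
  have m : w⁻¹ * (r * s * y * (r * s)⁻¹) ∈ Om P := by
    have : r * (v⁻¹ * (s * y * s⁻¹)) * r⁻¹ ∈ Om P := by
      rw [← r2, ← cj_Om]; exact conj_mem_cj.2 s3
    convert mul_mem r3 this using 1
    group
  exact ⟨r * s, mul_mem (sup_le_sup (zpowers_le.2 hw) (zpowers_le.2 hv) hr)
    (sup_le_sup (zpowers_le.2 hy) (zpowers_le.2 hv) hs), by rw [mem_Ns_iff, cj_mul, s1, r2],
    by rw [mem_Ns_iff, cj_mul, s2, r1], m, by rw [← conj_mul', sq_eq h e.left hw m]⟩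

omit [Finite G] in
/-- Lemma (1'). -/
theorem one (h : Sy S) (e : Ep S P P') (hc : c ∈ Ns P') (hA : c ∈ Cs (Om P)) (hy : y ∈ P)
    (h2 : y * y ≠ 1) (hm : ⁅y, c⁆ ∈ Om P) :
    c ∈ Cs (Om P') ∧ (∀ w ∈ P', ⁅w, c⁆ ∈ Om P') ∧ c * c ∈ Cs P' := by
  have k1 : c ∈ Cs (Om P') := mem_Cs.2 fun b hb => by
    have hb' := mem_normalizer_conj (Ns_le_Ns_Om hc) hb
    have e1 := conj_comm c y b
    rw [← mem_Cs.1 hA _ (e.quad h hy hb), mul_inv_cancel_right,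
      show c * y * c⁻¹ = ⁅y, c⁆⁻¹ * y by rw [commutatorElement_def]; group,
      h.comm_mul_left e.left (e.symm.le_Ns h hb') (inv_mem (Om_le hm)) hy,
      commutatorElement_eq_one_iff_mul_comm.2 (e.comm h (inv_mem hm) hb'), one_mul] at e1
    conv_lhs => rw [e.comm_inj h hy h2 hb hb' e1]
    rw [inv_mul_cancel_right]
  have k2 : ∀ w ∈ P', ⁅w, c⁆ ∈ Om P' := fun w hw => by
    obtain ⟨a, ha, a1⟩ := h.exists_ne e.left
    have m := comm_mem_left hc hw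
    refine mem_Om_of m ((e.nm' _ m).1 (h.mem_Ns_of_comm e.left (Om_le ha) a1
      (commutatorElement_eq_one_iff_mul_comm.1 ?_)))
    have e1 := conj_comm c w⁻¹ a
    rw [← mem_Cs.1 k1 _ (e.symm.quad h (inv_mem hw) ha), mul_inv_cancel_right,
      ← mem_Cs.1 hA a ha, mul_inv_cancel_right] at e1
    rw [show ⁅w, c⁆ = w * (c * w⁻¹ * c⁻¹) by rw [commutatorElement_def]; group,
      h.comm_mul_left e.right (e.le_Ns h ha) hw (mem_normalizer_conj hc (inv_mem hw)), ← e1,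
      ← h.comm_mul_left e.right (e.le_Ns h ha) hw (inv_mem hw), mul_inv_cancel,
      commutatorElement_one_left]
  refine ⟨k1, k2, mem_Cs.2 fun w hw => commutatorElement_eq_one_iff_mul_comm.1 ?_⟩
  have : ⁅w, c * c⁆ = ⁅w, c⁆ * (c * ⁅w, c⁆ * c⁻¹) := by simp only [commutatorElement_def]; group
  rw [this, ← mem_Cs.1 k1 _ (k2 w hw), mul_inv_cancel_right, h.sq e.right (k2 w hw)]

omit [Finite G] in
theorem one'' (h : Sy S) (e : Ep S P P') (hc : c ∈ Ns P') (hA : c ∈ Cs P) :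
    c ∈ Cs (Om P') ∧ (∀ w ∈ P', ⁅w, c⁆ ∈ Om P') ∧ c * c ∈ Cs P' := by
  obtain ⟨y, hy, h2⟩ := h.nel e.left
  exact e.one h hc (Cs_anti Om_le hA) hy h2 (by
    rw [commutatorElement_eq_one_iff_mul_comm.2 (mem_Cs.1 hA y hy)]; exact one_mem _)

omit [Finite G] in
/-- Lemma (1') for elements centralising `P`. -/
theorem one' (h : Sy S) (e : Ep S P P') (hc : c ∈ Ns P') (hA : c ∈ Cs P) : c ∈ Cs (Om P') :=
  (e.one'' h hc hA).1

/-- Lemma NC. -/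
theorem nc (h : Sy S) (e : Ep S P P') (hc : c ∈ Cs P) (hc' : c ∈ Ns P') :
    ∃ a ∈ Om P, c * a ∈ Cs (P ⊔ P') := by
  obtain ⟨k1, k2, -⟩ := e.one'' h hc' hc
  obtain ⟨y, hy, y2⟩ := h.nel e.left
  obtain ⟨w, hw, w2⟩ := h.nel e.right
  obtain ⟨a, ha, h1⟩ := e.symm.surj h hw w2 (k2 w hw)
  obtain ⟨s, hs, s1, -⟩ := e.swap h hy y2 hw w2
  have c1 : c * a ∈ Cs P := mul_mem hc (mem_Cs.2 fun x hx => h.comm e.left hx (Om_le ha))
  have c2 : w * (c * a) = c * a * w := by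
    have : ⁅w, c * a⁆ = ⁅w, c⁆ * (c * ⁅w, a⁆ * c⁻¹) := by simp only [commutatorElement_def]; group
    rw [h1, ← mem_Cs.1 k1 _ (k2 w hw), mul_inv_cancel_right, h.sq e.right (k2 w hw)] at this
    exact commutatorElement_eq_one_iff_mul_comm.1 this
  have c3 : s ∈ C1 (c * a) := (sup_le (zpowers_le.2 (mem_C1.2 (mem_Cs.1 c1 y hy)))
    (zpowers_le.2 (mem_C1.2 c2)) : _ ≤ C1 (c * a)) hs
  have c4 : P ≤ C1 (c * a) := fun x hx => mem_C1.2 (mem_Cs.1 c1 x hx)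
  exact ⟨a, ha, mem_Cs.2 fun x hx => mem_C1.1
    ((sup_le c4 (s1 ▸ cj_le_of_mem_of_le c3 c4) : _ ≤ C1 (c * a)) hx)⟩

theorem part (h : Sy S) (e : Ep S P P') (hf : Full S) (ha : a ∈ Om P) (hb : b ∈ Om P')
    (h1 : b ≠ 1) : ∃ y ∈ P, y * b * y⁻¹ = a * b := by
  let f : P →* Om P := MonoidHom.mk' (fun y => ⟨⁅y.1, b⁆, e.quad h y.2 hb⟩) fun y w =>
    Subtype.ext (h.comm_mul_left e.left (e.symm.le_Ns h hb) y.2 w.2)
  have h2 := card_of_hom f fun x => ⟨fun q => mem_Om_of x.2 (by_contra fun x2 =>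
    h1 (e.inj h x.2 x2 hb (commutatorElement_eq_one_iff_mul_comm.1 (congrArg Subtype.val q)))),
    fun q => Subtype.ext (commutatorElement_eq_one_iff_mul_comm.2 (e.comm h q hb))⟩
  rw [e.card_full h hf, sq] at h2
  obtain ⟨y, hy⟩ := (eq_top_of_card_eq f.range
    (Nat.eq_of_mul_eq_mul_right Nat.card_pos h2).symm).ge (mem_top ⟨a, ha⟩)
  refine ⟨y, y.2, ?_⟩
  rw [← show ⁅y.1, b⁆ = a from congrArg Subtype.val hy, commutatorElement_def,
    inv_mul_cancel_right]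

theorem part' (h : Sy S) (e : Ep S P P') (hf : Full S) (hx : x ∈ Nb P P') :
    ∃ g ∈ P ⊔ P', g * x * g⁻¹ ∈ Om P := by
  obtain ⟨a, ha, b, hb, rfl⟩ := (e.mem_Nb h).1 hx
  by_cases a1 : a = 1
  · obtain ⟨y, hy, y2⟩ := h.nel e.left
    obtain ⟨w, hw, w2⟩ := h.nel e.right
    obtain ⟨s, hs, -, s1, -⟩ := e.swap h hy y2 hw w2
    refine ⟨s, sup_le_sup (zpowers_le.2 hy) (zpowers_le.2 hw) hs, ?_⟩
    rw [a1, one_mul, ← s1, ← cj_Om]
    exact conj_mem_cj.2 hb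
  · obtain ⟨y, hy, q⟩ := e.symm.part h hf hb ha a1
    refine ⟨y⁻¹, mem_sup_right (inv_mem hy), ?_⟩
    rw [e.comm h ha hb, ← q]
    simpa [mul_assoc] using ha

/-- A point meeting `Nb P P'` outside `P` is a `P`-conjugate of `P'`. -/
theorem exists_cj (h : Sy S) (e : Ep S P P') (hf : Full S) (hX : X ∈ S) (ha : a ∈ X)
    (hN : a ∈ Nb P P') (hn : a ∉ P) : ∃ y ∈ P, cj y P' = X ∧ Nb P X = Nb P P' := by
  obtain ⟨a, ha', b, hb, rfl⟩ := (e.mem_Nb h).1 hN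
  have b1 : b ≠ 1 := fun q => hn (by rw [q, mul_one]; exact Om_le ha')
  obtain ⟨y, hy, q⟩ := e.part h hf ha' hb b1
  have k := h.cj_eq_of_mem e.right hX (Om_le hb) b1 (q ▸ ha)
  refine ⟨y, hy, k, ?_⟩
  rw [← mem_Ns_iff.1 (e.le_Ns_Nb h (mem_sup_left hy)), cj_sup, cj_Om, cj_Om, k, cj_eq_of_mem hy]

theorem exists_mul (h : Sy S) (e : Ep S P P') (hf : Full S) (hg : g ∈ Ns P)
    (hN : g ∈ Ns (Nb P P')) : ∃ y ∈ P, y * g ∈ Ns P' := by
  obtain ⟨b, hb, b1⟩ := h.exists_ne e.right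
  obtain ⟨y, hy, q, -⟩ := e.exists_cj h hf (h.conj e.right g) (conj_mem_cj.2 (Om_le hb))
    (mem_normalizer_conj hN (mem_sup_right hb)) fun q => b1 (h.ti e.left e.right e.ne
      (by simpa [mul_assoc] using mem_normalizer_conj' hg q) (Om_le hb))
  exact ⟨y⁻¹, inv_mem hy, by rw [mem_Ns_iff, cj_mul, ← q, cj_inv_cj]⟩

/-- The swap lemma SW. -/
theorem sw (h : Sy S) (e : Ep S P P') (hx : x * x = 1) (hs : cj x P = P') :
    ∃ g ∈ P ⊔ zpowers x, ∃ η ∈ cj g P, η * η ≠ 1 ∧ η * x ∈ Ns P ∧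
      ∃ a ∈ Om P, a * x ≠ x * a ∧ a * x * a * x ∈ cj g P := by
  have ix := inv_eq_of_mul_eq_one_right hx
  obtain ⟨y, hy, y2⟩ := h.nel e.left
  have hs' : cj x P' = P := by rw [← hs, cj_cj, hx, cj_one]
  have q := e.qp h
  have x1 : x ∈ Ns (NN P P') := by
    rw [e.nn_eq h, mem_Ns_iff, cj_sup, cj_Om, cj_Om, hs, hs', sup_comm]
  have y1 : y ∈ Ns (NN P P') := h.left_le_Ns_NN q hy
  have hw : x * y * x⁻¹ ∈ P' := hs ▸ conj_mem_cj.2 hy
  obtain ⟨k, hk⟩ := h.odd q hy (e.not_mem hy y2) hw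
    (e.symm.not_mem hw fun q => y2 (by rw [conj_mul'] at q; simpa using q))
  rw [ix] at hk
  obtain ⟨π, k1, k2, h1, h2⟩ := lift_mod y1 x1 (mem_sup_left (q.sq y hy)) (hx ▸ one_mem _)
  obtain ⟨e1, e2⟩ := dih_sw h1 h2 (k := k) (by
    rw [← map_mul, ← map_mul, ← map_mul, ← map_pow]; exact (k1 _).2 hk)
  let r : Ns (NN P P') := (⟨y, y1⟩ * ⟨x, x1⟩) ^ k
  let z : Ns (NN P P') := r * ⟨y, y1⟩ * r⁻¹ * ⟨x, x1⟩
  have m1 := (k1 (z * z)).1 (by simp only [z, r, map_mul, map_inv, map_pow, e1])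
  have m2 := k2 ⟨y, y1⟩ (z * ⟨y, y1⟩ * z⁻¹) (by simp only [z, r, map_mul, map_inv, map_pow, e2])
  obtain ⟨u, hu, u1⟩ := h.exists_ne e.left
  have uN : ∀ {u : G}, u ∈ Om P → u ∈ NN P P' := fun hu => e.nn_eq h ▸ mem_sup_left hu
  have z1 : z.1 ∈ Ns P := mem_Ns_iff.2
    (h.cj_eq_of_mod q e.left z.2 hy (Om_le hu) u1 (uN hu) hy (e.not_mem hy y2) m2)
  obtain ⟨a, ha, a1, az⟩ : ∃ a ∈ Om P, a ≠ 1 ∧ z.1 * a * z.1⁻¹ = a := by
    by_cases c : z.1 * u * z.1⁻¹ = u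
    · exact ⟨u, hu, u1, c⟩
    have hu' := mem_normalizer_conj (Ns_le_Ns_Om z1) hu
    refine ⟨u * (z * u * z.1⁻¹), mul_mem hu hu', fun q => c (by
      rw [eq_inv_of_mul_eq_one_right q, inv_eq_of_mul_eq_one_right (h.sq e.left hu)]), ?_⟩
    have c1 : z.1 * z.1 * u = u * (z.1 * z.1) := h.NN_mul_comm e.left e.right e.ne m1 (uN hu)
    calc z.1 * (u * (z * u * z.1⁻¹)) * z.1⁻¹ = z * u * z.1⁻¹ * (z.1 * z.1 * u * (z.1 * z.1)⁻¹) := by
          group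
      _ = _ := by rw [c1, mul_inv_cancel_right, h.comm e.left (Om_le hu) (Om_le hu')]
  refine ⟨r, pow_mem (mul_mem (mem_sup_left hy) (mem_sup_right (mem_zpowers x))) k,
    r * y * r.1⁻¹, conj_mem_cj.2 hy, fun q => y2 (by rw [conj_mul'] at q; simpa using q), z1, a, ha,
    fun c => e.ne (hs ▸ (mem_Ns_iff.1 (h.mem_Ns_of_comm e.left (Om_le ha) a1 c.symm)).symm), ?_⟩
  obtain ⟨b, hb, c, hc, q⟩ := (e.mem_Nb h).1 ((e.nn_eq h).le (mem_normalizer_conj' r.2 (uN ha)))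
  have e3 : x * a * x = r * y⁻¹ * r.1⁻¹ * a * (r * y * r.1⁻¹) := by
    conv_rhs => rw [← az]
    rw [show x * a * x = x * a * x⁻¹ by rw [ix]]
    show _ = r * y⁻¹ * r.1⁻¹ * (r * y * r.1⁻¹ * x * a * (r * y * r.1⁻¹ * x)⁻¹) * (r * y * r.1⁻¹)
    group
  rw [mem_cj]
  have e4 : r.1⁻¹ * (a * x * a * x) * r = r.1⁻¹ * a * r * y⁻¹ * (r.1⁻¹ * a * r) * y := by
    rw [mul_assoc a x, mul_assoc a, e3]; group
  rw [e4, q]
  have e5 : b * c * y⁻¹ * (b * c) * y = b * (c * (y⁻¹ * b) * c⁻¹) * y := by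
    rw [inv_eq_of_mul_eq_one_right (h.sq e.right hc)]; group
  rw [e5]
  exact mul_mem (mul_mem (Om_le hb) (mem_normalizer_conj (e.symm.le_Ns h hc)
    (mul_mem (inv_mem hy) (Om_le hb)))) hy

end Ep

end Cfsg.Lib.TIB
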