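import Cfsg.Agent.TIM.Ab
import Cfsg.Agent.Local.CharP
import Cfsg.Agent.Gold.Cm

/-!
# Abelian TI subgroups normal in a maximal 2-local subgroup of characteristic 2: definitions

* `Sy S`: `S` is a class ("points") of noncyclic, non-elementary abelian TI 2-subgroups whose
  normalisers are maximal 2-local subgroups of characteristic 2.
* `Cm`: distinct commuting points; `Ep`: pairs with `N_P(P') = Ω₁ P`, `N_{P'}(P) = Ω₁ P'`.
* `GT`: good triples.
-/

set_option autoImplicit false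

namespace Cfsg.Lib.TIB

open Subgroup Cfsg.Lib.Trans Cfsg.Lib.Gold Cfsg.Lib.TIM

variable {G : Type*} [Group G]

/-- The subgroup generated by the involutions. -/
abbrev Om (P : Subgroup G) : Subgroup G := omegaOne 2 P

/-- The largest normal 2-subgroup of the normaliser. -/
abbrev Qp (P : Subgroup G) : Subgroup G := pCoreOf 2 (Ns P)

/-- The elementary abelian group of an `Ep` pair. -/
abbrev Nb (P X : Subgroup G) : Subgroup G := Om P ⊔ Om X

/-- The 2-group `P Ω₁(X)`. -/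
abbrev Tb (P X : Subgroup G) : Subgroup G := P ⊔ Om X

/-- The system of points. -/
structure Sy (S : Set (Subgroup G)) : Prop extends ASys S where
  four : ∀ {P : Subgroup G}, P ∈ S →
    ∃ a ∈ P, ∃ b ∈ P, a ≠ 1 ∧ b ≠ 1 ∧ a ≠ b ∧ a * a = 1 ∧ b * b = 1
  nel : ∀ {P : Subgroup G}, P ∈ S → ∃ y ∈ P, y * y ≠ 1
  ch : ∀ {P : Subgroup G}, P ∈ S → ∀ {g : G}, g ∈ Ns P → g ∈ Cs (Qp P) → g ∈ Qp P
  mx : ∀ {P : Subgroup G}, P ∈ S → ∀ {X : Subgroup G}, X ≠ ⊥ → IsPGroup 2 X → Ns P ≤ Ns X →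
    Ns X ≤ Ns P
  o2 : ∀ {X : Subgroup G}, X.Normal → IsPGroup 2 X → X = ⊥

/-- Distinct commuting points. -/
structure Cm (S : Set (Subgroup G)) (P P' : Subgroup G) : Prop where
  left : P ∈ S
  right : P' ∈ S
  ne : P ≠ P'
  comm : ∀ x ∈ P, ∀ y ∈ P', x * y = y * x

/-- Pairs of points in which exactly the involutions of each normalise the other. -/
structure Ep (S : Set (Subgroup G)) (P P' : Subgroup G) : Prop where
  left : P ∈ S
  right : P' ∈ S
  ne : P ≠ P'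
  nm : ∀ x ∈ P, x ∈ Ns P' ↔ x * x = 1
  nm' : ∀ x ∈ P', x ∈ Ns P ↔ x * x = 1

/-- No two distinct points commute. -/
def NoC (S : Set (Subgroup G)) : Prop := ∀ P P' : Subgroup G, ¬ Cm S P P'

/-- Every involution of a point is a square in it. -/
def Full (S : Set (Subgroup G)) : Prop := ∀ P ∈ S, ∀ a ∈ Om P, ∃ y ∈ P, y * y = a

/-- Good triples. -/
structure GT (S : Set (Subgroup G)) (Z X Y : Subgroup G) : Prop where
  l : Ep S Z X
  r : Ep S Z Y
  hl : ∀ a ∈ Om X, a ≠ 1 → ∃ η ∈ Z, η * η ≠ 1 ∧ η * a ∈ Cs (Om Y) ∧ a * η * a = η⁻¹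
  hr : ∀ b ∈ Om Y, b ≠ 1 → ∃ η ∈ Z, η * η ≠ 1 ∧ η * b ∈ Cs (Om X) ∧ b * η * b = η⁻¹

variable {S : Set (Subgroup G)} {P P' X Y Z : Subgroup G} {x : G}

theorem Cm.symm (c : Cm S P P') : Cm S P' P :=
  ⟨c.right, c.left, c.ne.symm, fun x hx y hy => (c.comm y hy x hx).symm⟩

theorem Ep.symm (e : Ep S P P') : Ep S P' P := ⟨e.right, e.left, e.ne.symm, e.nm', e.nm⟩

theorem GT.symm (t : GT S Z X Y) : GT S Z Y X := ⟨t.r, t.l, t.hr, t.hl⟩

theorem Om_le : Om P ≤ P := (closure_le _).2 fun _ hx => hx.1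

theorem mem_Om_of (hx : x ∈ P) (h2 : x * x = 1) : x ∈ Om P :=
  subset_closure ⟨hx, by rw [sq, h2]⟩

theorem cj_Om (g : G) (P : Subgroup G) : cj g (Om P) = Om (cj g P) := by
  have key : ∀ (g : G) (P : Subgroup G), cj g (Om P) ≤ Om (cj g P) := fun g P => by
    rw [Om, omegaOne, cj_closure, closure_le]
    rintro _ ⟨x, hx, rfl⟩
    exact subset_closure ⟨conj_mem_cj.2 hx.1, by rw [conj_pow, hx.2]; group⟩
  refine (key g P).antisymm ?_
  have := key g⁻¹ (cj g P)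
  rwa [cj_inv_cj, cj_inv_le_iff_le_cj] at this

theorem Ns_le_Ns_Om : Ns P ≤ Ns (Om P) := fun g hg => by
  rw [mem_Ns_iff, cj_Om, mem_Ns_iff.1 hg]

theorem cj_Qp (g : G) (P : Subgroup G) : cj g (Qp P) = Qp (cj g P) := by
  rw [Local.cj_pCoreOf, cj_Ns]

theorem mem_Om_iff (hc : ∀ a ∈ P, ∀ b ∈ P, a * b = b * a) : x ∈ Om P ↔ x ∈ P ∧ x * x = 1 := by
  refine ⟨fun hx => ⟨Om_le hx, ?_⟩, fun hx => mem_Om_of hx.1 hx.2⟩
  induction hx using closure_induction with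
  | mem x hx => rw [← sq, hx.2]
  | one => simp
  | mul x y hx hy h1 h2 =>
    calc x * y * (x * y) = x * (y * x) * y := by group
      _ = x * x * (y * y) := by rw [hc y (Om_le hy) x (Om_le hx)]; group
      _ = 1 := by rw [h1, h2, mul_one]
  | inv x _ h1 => rw [← mul_inv_rev, h1, inv_one]

theorem Sy.mem_Om (h : Sy S) (hP : P ∈ S) : x ∈ Om P ↔ x ∈ P ∧ x * x = 1 :=
  mem_Om_iff fun _ ha _ hb => h.comm hP ha hb

theorem Sy.sq (h : Sy S) (hP : P ∈ S) (hx : x ∈ Om P) : x * x = 1 := ((h.mem_Om hP).1 hx).2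

theorem Cm.conj (h : Sy S) (c : Cm S P P') (g : G) : Cm S (cj g P) (cj g P') :=
  ⟨h.conj c.left g, h.conj c.right g, fun e => c.ne (cj_inj.1 e), fun x hx y hy => by
    have := c.comm _ (mem_cj.1 hx) _ (mem_cj.1 hy)
    calc x * y = g * (g⁻¹ * x * g * (g⁻¹ * y * g)) * g⁻¹ := by group
      _ = y * x := by rw [this]; group⟩

theorem Ep.conj (h : Sy S) (e : Ep S P P') (g : G) : Ep S (cj g P) (cj g P') := by
  have key : ∀ {P P' : Subgroup G}, (∀ x ∈ P, x ∈ Ns P' ↔ x * x = 1) →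
      ∀ x ∈ cj g P, x ∈ Ns (cj g P') ↔ x * x = 1 := fun {P P'} e x hx => by
    rw [← cj_Ns, mem_cj, e _ (mem_cj.1 hx)]
    constructor
    · intro h1
      calc x * x = g * (g⁻¹ * x * g * (g⁻¹ * x * g)) * g⁻¹ := by group
        _ = 1 := by rw [h1]; group
    · intro h1
      calc g⁻¹ * x * g * (g⁻¹ * x * g) = g⁻¹ * (x * x) * g := by group
        _ = 1 := by rw [h1]; group
  exact ⟨h.conj e.left g, h.conj e.right g, fun q => e.ne (cj_inj.1 q), key e.nm, key e.nm'⟩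

end Cfsg.Lib.TIB
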