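import Cfsg.Agent.TIB.W

/-!
# Good triples: the 2-group `Z Ω₁(X)` is normal in the normaliser of `Z`
-/

set_option autoImplicit false

namespace Cfsg.Lib.TIB

open Subgroup Cfsg.Lib.Trans Cfsg.Lib.Gold Cfsg.Lib.TIM
open scoped commutatorElement

variable {G : Type*} [Group G] [Finite G] {S : Set (Subgroup G)}
  {P P' X Y Z U H I T X' Y' : Subgroup G} {a b c g x y w η u v : G}

namespace End1

theorem cases_mem (h : Sy S) (hn : NoC S) (hP : P ∈ S) (hP' : P' ∈ S) (hx : x ∈ P) (h1 : x ≠ 1)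
    (hN : x ∈ Ns P') : P = P' ∨ Ep S P P' := by
  rcases h.cases_of_mem hP hP' hx h1 hN with e | e | e
  · exact Or.inl e
  · exact (hn _ _ e).elim
  · exact Or.inr e

theorem eq_nsq (h : Sy S) (hn : NoC S) (hP : P ∈ S) (hP' : P' ∈ S) (hx : x ∈ P)
    (h1 : x * x ≠ 1) (hN : x ∈ Ns P') : P = P' :=
  (h.cases_of_nsq hP hP' hx h1 hN).resolve_right (hn _ _)

omit [Finite G] in
theorem le_or_le {C A B : Subgroup G} (h : ∀ x ∈ C, x ∈ A ∨ x ∈ B) : C ≤ A ∨ C ≤ B := by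
  by_contra hn
  rw [not_or, SetLike.not_le_iff_exists, SetLike.not_le_iff_exists] at hn
  obtain ⟨⟨x, hx, hxA⟩, y, hy, hyB⟩ := hn
  rcases h _ (C.mul_mem hx hy) with h1 | h1
  · exact hxA ((A.mul_mem_cancel_right ((h y hy).resolve_right hyB)).1 h1)
  · exact hyB ((B.mul_mem_cancel_left ((h x hx).resolve_left hxA)).1 h1)

omit [Finite G] in
theorem inv_nsq (h2 : η * η ≠ 1) : η⁻¹ * η⁻¹ ≠ 1 := fun e =>
  h2 (by rw [← mul_inv_rev, inv_eq_one] at e; exact e)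

omit [Finite G] in
theorem Nb_le_Tb : Nb Z X ≤ Tb Z X := sup_le_sup_right Om_le _

theorem Tb_le_Ns (h : Sy S) (e : Ep S Z X) : Tb Z X ≤ Ns (Nb Z X) :=
  (sup_le_sup_left Om_le _).trans (e.le_Ns_Nb h)

/-- The involutions of the neighbours of `Z`. -/
def UU (S : Set (Subgroup G)) (Z : Subgroup G) : Set G := {v | ∃ X', Ep S Z X' ∧ v ∈ Om X'}

omit [Finite G] in
theorem UU_conj (h : Sy S) (hg : g ∈ Ns Z) (hv : v ∈ UU S Z) : g * v * g⁻¹ ∈ UU S Z := by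
  obtain ⟨X', e, hv⟩ := hv
  refine ⟨cj g X', ?_, ?_⟩
  · have := e.conj h g
    rwa [mem_Ns_iff.1 hg] at this
  · rw [← cj_Om]
    exact conj_mem_cj.2 hv

end End1

open End1

theorem GT.Tb_symm (h : Sy S) (hn : NoC S) (t : GT S Z X Y) : Tb Z X = Tb Z Y :=
  (sup_le le_sup_left (t.symm.le h hn)).antisymm (sup_le le_sup_left (t.le h hn))

theorem GT.Tb_eq (h : Sy S) (hn : NoC S) (t : GT S Z X Y) : Tb Z X = Om X ⊔ Om Y := by
  refine le_antisymm (sup_le ?_ le_sup_left) (sup_le le_sup_right (t.le h hn))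
  have hA : Om Z ≤ Om X ⊔ Om Y := fun α hα => by
    obtain ⟨b, hb, h1⟩ := h.exists_ne t.r.right
    obtain ⟨η, hη, h2, hc, -⟩ := t.hr b hb h1
    obtain ⟨a, ha, e⟩ := t.l.surj h (Z.inv_mem hη) (inv_nsq h2) hα
    have e1 := mem_Cs.1 hc a ha
    have : α = b * a * b⁻¹ * a⁻¹ := by
      rw [← e, commutatorElement_def]
      calc η⁻¹ * a * η⁻¹⁻¹ * a⁻¹ = η⁻¹ * (a * (η * b)) * b⁻¹ * a⁻¹ := by group
        _ = _ := by rw [e1]; group
    rw [this]
    exact mul_mem (mul_mem (mul_mem (mem_sup_right hb) (mem_sup_left ha))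
      (inv_mem (mem_sup_right hb))) (inv_mem (mem_sup_left ha))
  intro η hη
  by_cases h2 : η * η = 1
  · exact hA (mem_Om_of hη h2)
  obtain ⟨a, ha, -, hi⟩ := t.l.exists_inv h hη h2
  obtain ⟨b, hb, -, hj⟩ := t.r.exists_inv h hη h2
  have := hA (t.rho_one h hn hη h2 ha hb hi hj)
  rwa [mul_mem_cancel_right (mem_sup_left ha), mul_mem_cancel_right (mem_sup_right hb)] at this

theorem GT.iv (h : Sy S) (hn : NoC S) (t : GT S Z X Y) (hx : x ∈ Tb Z X) (h2 : x * x = 1) :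
    x ∈ Nb Z X ∨ x ∈ Nb Z Y := by
  obtain ⟨y, hy, a, ha, rfl⟩ := (t.l.mem_Tb h).1 hx
  by_cases h3 : y * y = 1
  · exact Or.inl (mul_mem (mem_sup_left (mem_Om_of hy h3)) (mem_sup_right ha))
  right
  have hi : a * y * a = y⁻¹ := eq_inv_of_mul_eq_one_right (by rw [← h2]; group)
  obtain ⟨b, hb, -, hj⟩ := t.r.exists_inv h hy h3
  have h4 := t.rho_one h hn hy h3 ha hb hi hj
  have h5 : a ∈ Ns (Nb Z Y) := Tb_le_Ns h t.r (t.symm.le h hn ha)
  have : y * a = y * b * a * (a⁻¹ * b⁻¹ * a) := by group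
  rw [this]
  exact mul_mem (mem_sup_left h4) (mem_normalizer_conj' h5 (inv_mem (mem_sup_right hb)))

namespace End1

theorem mem_Ns_Tb (h : Sy S) (hn : NoC S) (t : GT S Z X Y)
    (h1 : ∀ a ∈ Om X, g * a * g⁻¹ ∈ Tb Z X) (h2 : ∀ b ∈ Om Y, g * b * g⁻¹ ∈ Tb Z X) :
    g ∈ Ns (Tb Z X) := by
  refine mem_normalizer_of_cj_le ?_
  conv_lhs => rw [t.Tb_eq h hn, cj_sup]
  exact sup_le (cj_le_iff.2 h1) (cj_le_iff.2 h2)

theorem cj_cases (h : Sy S) (hn : NoC S) (t : GT S Z X Y) (hg : g ∈ Ns (Tb Z X)) :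
    g ∈ Ns (Nb Z X) ∨ cj g (Nb Z X) ≤ Nb Z Y := by
  refine (le_or_le fun x hx => t.iv h hn ?_ ?_).imp_left mem_normalizer_of_cj_le
  · rw [← mem_Ns_iff.1 hg]
    exact cj_mono g Nb_le_Tb hx
  · have := t.l.sq_Nb h (mem_cj.1 hx)
    calc x * x = g * (g⁻¹ * x * g * (g⁻¹ * x * g)) * g⁻¹ := by group
      _ = 1 := by rw [this]; group

/-- Lemma KL. -/
theorem kl (h : Sy S) (hn : NoC S) (t : GT S Z X Y) (e : Ep S Z X')
    (hc : ∀ a ∈ Om X', ∀ b ∈ Om X, a * b = b * a) : Om X' ≤ Nb Z X := by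
  obtain ⟨v, hv, hv1⟩ := h.exists_ne e.right
  obtain ⟨u, hu, hu1⟩ := h.exists_ne t.l.right
  rcases cases_mem h hn e.right t.l.right (Om_le hv) hv1
    (h.mem_Ns_of_comm t.l.right (Om_le hu) hu1 (hc v hv u hu)) with rfl | e'
  · exact le_sup_right
  obtain ⟨y, hy, hy2⟩ := h.nel e.right
  obtain ⟨a, ha, ha1⟩ := h.exists_ne e.left
  have hq := e.symm.quad h hy ha
  obtain ⟨b, hb, eb⟩ := e'.surj h hy hy2 hq
  have e1 := e.comm h ha hq
  have e2 := h.sq e.right hq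
  have e3 : y * (a * b) = a * b * y := by
    calc y * (a * b) = ⁅y, a⁆ * (a * ⁅y, b⁆) * b * y := by
          simp only [commutatorElement_def]; group
      _ = ⁅y, a⁆ * ⁅y, a⁆ * a * b * y := by rw [eb, e1]; group
      _ = _ := by rw [e2, one_mul]
  have hne : a * b ≠ 1 := fun q => t.l.ne (h.eq_of_mem e.left t.l.right (Om_le ha)
    (by rw [eq_inv_of_mul_eq_one_left q]; exact X.inv_mem (Om_le hb)) ha1)
  obtain ⟨g, hg, hm⟩ := t.l.part' h (t.full h) (mul_mem (mem_sup_left ha) (mem_sup_right hb))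
  have hR := h.conj e.left g⁻¹
  have := eq_nsq h hn e.right hR hy hy2
    (h.mem_Ns_of_comm hR (mem_cj_inv.2 (Om_le hm)) hne e3)
  rw [this, ← cj_Om, ← mem_Ns_iff.1 (inv_mem (t.l.le_Ns_Nb h hg))]
  exact cj_mono _ le_sup_left

theorem e3 (h : Sy S) (hn : NoC S) (t : GT S Z X Y) (hv : v ∈ UU S Z) (hN : v ∈ Ns (Nb Z X)) :
    v ∈ Tb Z X := by
  obtain ⟨X', e, hv⟩ := hv
  by_cases hv1 : v = 1
  · rw [hv1]; exact one_mem _
  obtain ⟨u, hu, hu1⟩ := h.exists_ne t.l.right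
  by_cases hc : u * v = v * u
  · exact Nb_le_Tb (kl h hn t e (fun a ha b hb => h.comm_of_mem e.right t.l.right (Om_le hv) hv1
      (h.mem_Ns_of_comm t.l.right (Om_le hu) hu1 hc.symm) ha hb) hv)
  · have h1 : v * u * v ∈ Nb Z X := by
      have := mem_normalizer_conj hN (mem_sup_right hu : u ∈ Nb Z X)
      rwa [inv_eq_of_sq (h.sq e.right hv)] at this
    exact (h.gt_of_d8 hn t.l e hu hv hc (comm_of_sq (fun _ => t.l.sq_Nb h) _ (mem_sup_right hu) _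
      h1)).le h hn hv

/-- An element of `Nb Z Y` inverting `η`. -/
theorem inv_of_mem (h : Sy S) (e : Ep S Z Y) (hη : η ∈ Z) (ha : a ∈ Om Z) (hb : b ∈ Om Y)
    (hi : a * b * η * (a * b) = η⁻¹) : b * η * b = η⁻¹ := by
  have e1 := e.comm h ha hb
  have e2 := h.comm e.left (Om_le ha) hη
  have e3 := h.sq e.left ha
  calc b * η * b = b * (a * a) * η * b := by rw [e3, mul_one]
    _ = b * a * (a * η) * b := by group
    _ = _ := by rw [← e1, e2, ← hi]; group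

theorem e4 (h : Sy S) (hn : NoC S) (t : GT S Z X Y) (hv : v ∈ UU S Z) (hN : v ∈ Ns (Tb Z X)) :
    v ∈ Tb Z X := by
  rcases cj_cases h hn t hN with h1 | h1
  · exact e3 h hn t hv h1
  obtain ⟨X', e, hv⟩ := hv
  by_cases hv1 : v = 1
  · rw [hv1]; exact one_mem _
  exfalso
  have hv2 := h.sq e.right hv
  have hvi := inv_eq_of_sq hv2
  have key : ∀ η ∈ Z, η * η ≠ 1 → v * η * v = η⁻¹ := fun η hη h2 => by
    obtain ⟨u, hu, -, hi⟩ := t.l.exists_inv h hη h2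
    have hu2 := h.sq t.l.right hu
    obtain ⟨α, hα, b, hb, e1⟩ := (t.r.mem_Nb h).1 (h1 (conj_mem_cj.2 (mem_sup_right hu)))
    rw [hvi] at e1
    have hβ := e.quad h (Z.inv_mem hη) hv
    obtain ⟨β, eβ⟩ : ∃ β, β = ⁅η⁻¹, v⁆ := ⟨_, rfl⟩
    rw [← eβ] at hβ
    have e2 : v * η * v = η * β := by
      rw [eβ, commutatorElement_def, hvi]; group
    have e2' : v * η⁻¹ * v = β⁻¹ * η⁻¹ := by
      rw [← mul_inv_rev, ← e2, mul_inv_rev, mul_inv_rev, hvi, mul_assoc]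
    have e3 : v * u * v * η * (v * u * v) = η⁻¹ := by
      calc v * u * v * η * (v * u * v) = v * u * (v * η * v) * u * v := by group
        _ = v * (u * η) * (β * u) * v := by rw [e2]; group
        _ = v * (u * η * u) * (β * v) := by rw [t.l.comm h hβ hu]; group
        _ = v * η⁻¹ * v * β := by rw [hi, e.comm h hβ hv]; group
        _ = β⁻¹ * (η⁻¹ * β) := by rw [e2']; group
        _ = η⁻¹ := by rw [h.comm e.left (Z.inv_mem hη) (Om_le hβ)]; group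
    have hj := inv_of_mem h t.r hη hα hb (e1 ▸ e3)
    have hγ := t.rho_one h hn hη h2 hu hb hi hj
    obtain ⟨γ, eγ⟩ : ∃ γ, γ = η * b * u := ⟨_, rfl⟩
    rw [← eγ] at hγ
    -- `c = v u v u = α η⁻¹ γ`
    have e4 : v * u * v * u = α * γ * η⁻¹ := by
      rw [e1, mul_assoc α γ, h.comm e.left (Om_le hγ) (Z.inv_mem hη), eγ]; group
    have e5 : v * (v * u * v * u) * v * (v * u * v * u) = 1 := by
      calc v * (v * u * v * u) * v * (v * u * v * u)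
          = (v * v) * u * v * u * (v * v) * u * v * u := by group
        _ = u * v * (u * u) * v * u := by rw [hv2]; group
        _ = u * (v * v) * u := by rw [hu2]; group
        _ = 1 := by rw [hv2, mul_one, hu2]
    have hαγ := mul_mem hα hγ
    rw [e4] at e5
    have e6 : v * η⁻¹ * v * η⁻¹ = 1 := by
      calc v * η⁻¹ * v * η⁻¹ = v * η⁻¹ * (α * γ * (α * γ)) * v * η⁻¹ := by
            rw [h.sq e.left hαγ, mul_one]
        _ = v * (η⁻¹ * (α * γ)) * (α * γ * v) * η⁻¹ := by group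
        _ = 1 := by
            rw [h.comm e.left (Z.inv_mem hη) (Om_le hαγ), e.comm h hαγ hv, ← e5]; group
    calc v * η * v = (v * η⁻¹ * v)⁻¹ := by rw [mul_inv_rev, mul_inv_rev, hvi, inv_inv, mul_assoc]
      _ = η⁻¹ := by rw [eq_inv_of_mul_eq_one_left e6, inv_inv]
  obtain ⟨v', hv', hv1', hne⟩ := h.exists_third e.right v
  obtain ⟨y, hy, rfl⟩ := t.full h _ e.right v hv
  obtain ⟨y', hy', rfl⟩ := t.full h _ e.right v' hv'
  obtain ⟨k, -, -, hk, -, ek⟩ := e.symm.ht h hy hv1 hy' hv1'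
  obtain ⟨η, hη, h2⟩ := h.nel e.left
  refine hne (e.inv_uniq h hη h2 hv' hv ?_ (key η hη h2))
  have := key _ (mem_normalizer_conj' hk hη) fun q => h2 (by
    calc η * η = k * (k⁻¹ * η * k * (k⁻¹ * η * k)) * k⁻¹ := by group
      _ = 1 := by rw [q]; group)
  rw [← ek]
  calc k * (y * y) * k⁻¹ * η * (k * (y * y) * k⁻¹)
      = k * (y * y * (k⁻¹ * η * k) * (y * y)) * k⁻¹ := by group
    _ = η⁻¹ := by rw [this]; group

theorem e5 (h : Sy S) (hn : NoC S) (t : GT S Z X Y) (hU : IsPGroup 2 U) (h1 : Tb Z X ≤ U)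
    (h2 : U ≤ Ns Z) (hv : v ∈ UU S Z) (hvU : v ∈ U) : v ∈ Tb Z X := by
  by_contra hc
  obtain ⟨w, hw, hw1, hw2⟩ := chain (W := {v | v ∈ UU S Z ∧ v ∈ U}) (H := Tb Z X) hU
    (fun _ hy => hy.2) (fun u hu y hy => ⟨UU_conj h (h2 hu) hy.1,
      mul_mem (mul_mem hu hy.2) (inv_mem hu)⟩) ⟨hv, hvU⟩ hc
  exact hw1 (e4 h hn t hw.1 (mem_Ns_Tb h hn t
    (fun a ha => hw2 a ⟨⟨X, t.l, ha⟩, h1 (mem_sup_right ha)⟩ (mem_sup_right ha))
    fun b hb => hw2 b ⟨⟨Y, t.r, hb⟩, h1 (t.le h hn hb)⟩ (t.le h hn hb)))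

theorem e5' (h : Sy S) (hn : NoC S) (t : GT S Z X Y) (hU : IsPGroup 2 U) (h1 : Tb Z X ≤ U)
    (h2 : U ≤ Ns Z) : U ≤ Ns (Tb Z X) := fun u hu =>
  mem_Ns_Tb h hn t
    (fun a ha => e5 h hn t hU h1 h2 (UU_conj h (h2 hu) ⟨X, t.l, ha⟩)
      (mul_mem (mul_mem hu (h1 (mem_sup_right ha))) (inv_mem hu)))
    fun b hb => e5 h hn t hU h1 h2 (UU_conj h (h2 hu) ⟨Y, t.r, hb⟩)
      (mul_mem (mul_mem hu (h1 (t.le h hn hb))) (inv_mem hu))

/-- An element centralising `Z` and normalising `Nb Z X` acts on `Ω₁ X` as an element of `Z`. -/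
theorem exists_cent (h : Sy S) (t : GT S Z X Y) (hx : x ∈ Cs Z) (hN : x ∈ Ns (Nb Z X)) :
    ∃ y ∈ Z, y * x ∈ Cs (Om X) := by
  obtain ⟨y, hy, h1⟩ := t.l.exists_mul h (t.full h) (Cs_le_Ns hx) hN
  exact ⟨y, hy, t.l.one' h h1 (mul_mem (mem_Cs.2 fun _ hu => h.comm t.l.left hu hy) hx)⟩

end End1

theorem GT.no_swap (h : Sy S) (hn : NoC S) (t : GT S Z X Y) (hx : x ∈ Cs Z)
    (h1 : x ∈ Ns (Tb Z X)) : x ∈ Ns (Nb Z X) := by
  refine (cj_cases h hn t h1).resolve_right fun h1 => ?_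
  have hc : ∀ η ∈ Z, x * η * x⁻¹ = η := fun η hη => conj_eq_of_mem_centralizer hx hη
  have key : ∀ η ∈ Z, η * η ≠ 1 → ∀ u ∈ Om X, u * η * u = η⁻¹ →
      x * x * u * (x * x)⁻¹ = η⁻¹ * η⁻¹ * u := fun η hη h2 u hu hi => by
    obtain ⟨α, hα, b, hb, e1⟩ := (t.r.mem_Nb h).1 (h1 (conj_mem_cj.2 (mem_sup_right hu)))
    have e3 : x * u * x⁻¹ * η * (x * u * x⁻¹) = η⁻¹ := by
      calc x * u * x⁻¹ * η * (x * u * x⁻¹) = x * u * x⁻¹ * (x * η * x⁻¹) * (x * u * x⁻¹) := by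
            rw [hc η hη]
        _ = x * (u * η * u) * x⁻¹ := by group
        _ = η⁻¹ := by rw [hi, hc _ (Z.inv_mem hη)]
    have hj := inv_of_mem h t.r hη hα hb (e1 ▸ e3)
    have hγ := t.rho_one h hn hη h2 hu hb hi hj
    obtain ⟨γ, eγ⟩ : ∃ γ, γ = η * b * u := ⟨_, rfl⟩
    rw [← eγ] at hγ
    have hαγ := mul_mem hα hγ
    have e4 : x * u * x⁻¹ = α * γ * η⁻¹ * u := by
      rw [e1, mul_assoc α γ, h.comm t.l.left (Om_le hγ) (Z.inv_mem hη), eγ]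
      calc α * b = α * b * (u * u) := by rw [h.sq t.l.right hu, mul_one]
        _ = _ := by group
    calc x * x * u * (x * x)⁻¹ = x * (x * u * x⁻¹) * x⁻¹ := by group
      _ = x * (α * γ * η⁻¹) * x⁻¹ * (x * u * x⁻¹) := by
          conv_lhs => rw [e4]
          group
      _ = α * γ * (η⁻¹ * (α * γ)) * η⁻¹ * u := by
          rw [hc _ (mul_mem (Om_le hαγ) (Z.inv_mem hη)), e4]; group
      _ = α * γ * (α * γ) * η⁻¹ * η⁻¹ * u := by
          rw [h.comm t.l.left (Z.inv_mem hη) (Om_le hαγ)]; group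
      _ = _ := by rw [h.sq t.l.left hαγ, one_mul]
  have hN : x * x ∈ Ns (Nb Z X) := by
    refine mem_normalizer_of_cj_le ?_
    rw [cj_sup]
    refine sup_le (cj_le_iff.2 fun a ha => ?_) (cj_le_iff.2 fun u hu => ?_)
    · rw [conj_eq_of_mem_centralizer (mul_mem hx hx) (Om_le ha)]
      exact mem_sup_left ha
    · by_cases hu1 : u = 1
      · rw [hu1, mul_one, mul_inv_cancel]; exact one_mem _
      obtain ⟨η, hη, h2, -, hi⟩ := t.hl u hu hu1
      rw [key η hη h2 u hu hi]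
      exact mul_mem (mem_sup_left (t.l.sq_mem h (Z.inv_mem hη))) (mem_sup_right hu)
  obtain ⟨y, hy, hy1⟩ := exists_cent h t (mul_mem hx hx) hN
  have fin : ∀ η ∈ Z, η * η ≠ 1 → y * y = η * η := fun η hη h2 => by
    obtain ⟨u, hu, hu1, hi⟩ := t.l.exists_inv h hη h2
    have e1 := conj_eq_of_mem_centralizer hy1 hu
    have e2 := key η hη h2 u hu hi
    have hyη := mul_mem hy (Z.inv_mem hη)
    have e3 : y * η⁻¹ * u = u * (y * η⁻¹) := by
      have e4 : η⁻¹ * u = u * η := by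
        rw [← hi, mul_assoc, h.sq t.l.right hu, mul_one]
      calc y * η⁻¹ * u = y * η⁻¹ * (u * η) * η⁻¹ := by group
        _ = y * (η⁻¹ * η⁻¹ * u) * η⁻¹ := by rw [← e4]; group
        _ = y * (x * x) * u * (y * (x * x))⁻¹ * (y * η⁻¹) := by rw [← e2]; group
        _ = _ := by rw [e1]
    have e5 : y * η⁻¹ * (y * η⁻¹) = 1 := by
      by_contra q
      exact hu1 (t.l.inj h hyη q hu e3)
    calc y * y = y * η⁻¹ * (η * y) := by group
      _ = y * η⁻¹ * (y * η⁻¹) * (η * η) := by rw [← h.comm t.l.left hy hη]; group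
      _ = η * η := by rw [e5, one_mul]
  obtain ⟨η, hη, h2⟩ := h.nel t.l.left
  obtain ⟨w, hw, h3, h4⟩ := h.exists_two (t.full h) t.l.left hη h2
  exact h4 ((fin w hw h3).symm.trans (fin η hη h2))

theorem GT.Tb_le_Q (h : Sy S) (hn : NoC S) (t : GT S Z X Y) : Tb Z X ≤ Qp Z := by
  refine sup_le (h.le_Q t.l.left) fun a ha => h.mem_Q_of_stab t.l.left
    ((h.pgroup t.l.left).to_le Om_le) Ns_le_Ns_Om (t.l.symm.le_Ns h ha)
    (mem_Cs.2 fun u hu => t.l.comm h hu ha) fun x hx hxZ => ?_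
  have hT := t.l.Tb_le h
  have h1 := e5' h hn t (U := Tb Z X ⊔ Qp Z) (pgroup_sup (t.l.pgroup_Tb h)
    (Local.isPGroup_pCoreOf _) (hT.trans (Local.le_normalizer_pCoreOf _))) le_sup_left
    (sup_le hT (Local.pCoreOf_le _)) (mem_sup_right hx)
  obtain ⟨y, hy, h2⟩ := exists_cent h t hxZ (t.no_swap h hn hxZ h1)
  have : ⁅x, a⁆ = ⁅y⁻¹, a⁆ := by
    have e1 := conj_eq_of_mem_centralizer h2 ha
    simp only [commutatorElement_def]
    calc x * a * x⁻¹ * a⁻¹ = y⁻¹ * (y * x * a * (y * x)⁻¹) * y⁻¹⁻¹ * a⁻¹ := by group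
      _ = _ := by rw [e1]
  rw [this]
  exact t.l.quad h (Z.inv_mem hy) ha

/-- The involutions of every neighbour of `Z` lie in `Tb Z X`. -/
theorem GT.Om_le (h : Sy S) (hn : NoC S) (t : GT S Z X Y) (e : Ep S Z X') : Om X' ≤ Tb Z X :=
  fun v hv => by
  have hM : zpowers v ≤ Ns Z := zpowers_le.2 (e.symm.le_Ns h hv)
  exact e5 h hn t (U := zpowers v ⊔ Qp Z) (pgroup_sup
    (((h.pgroup e.right).to_le TIB.Om_le).to_le (zpowers_le.2 hv))
    (Local.isPGroup_pCoreOf _) (hM.trans (Local.le_normalizer_pCoreOf _)))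
    ((t.Tb_le_Q h hn).trans le_sup_right) (sup_le hM (Local.pCoreOf_le _)) ⟨X', e, hv⟩
    (mem_sup_left (mem_zpowers v))

theorem GT.Nb_cases (h : Sy S) (hn : NoC S) (t : GT S Z X Y) (e : Ep S Z X') :
    Nb Z X' = Nb Z X ∨ Nb Z X' = Nb Z Y := by
  obtain ⟨a, ha, h1⟩ := h.exists_ne e.right
  have hZ : a ∉ Z := fun q => e.ne (h.eq_of_mem e.left e.right q (TIB.Om_le ha) h1)
  refine (t.iv h hn (t.Om_le h hn e ha) (h.sq e.right ha)).imp (fun q => ?_) fun q => ?_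
  · obtain ⟨-, -, -, r⟩ := t.l.exists_cj h (t.full h) e.right (TIB.Om_le ha) q hZ
    exact r
  · obtain ⟨-, -, -, r⟩ := t.r.exists_cj h (t.full h) e.right (TIB.Om_le ha) q hZ
    exact r

theorem GT.Ns_le (h : Sy S) (hn : NoC S) (t : GT S Z X Y) : Ns Z ≤ Ns (Tb Z X) := fun m hm => by
  have key : ∀ v ∈ UU S Z, m * v * m⁻¹ ∈ Tb Z X := fun v hv => by
    obtain ⟨X', e, h1⟩ := UU_conj h hm hv
    exact t.Om_le h hn e h1
  exact mem_Ns_Tb h hn t (fun a ha => key a ⟨X, t.l, ha⟩) fun b hb => key b ⟨Y, t.r, hb⟩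

end Cfsg.Lib.TIB
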