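import Cfsg.Agent.TIB.End1

/-! # Good triples: centralisers and strong closure -/

set_option autoImplicit false

namespace Cfsg.Lib.TIB

open Subgroup Cfsg.Lib.Trans Cfsg.Lib.Gold Cfsg.Lib.TIM
open scoped commutatorElement

variable {G : Type*} [Group G] [Finite G] {S : Set (Subgroup G)}
  {P P' X Y Z : Subgroup G} {c g x y : G}

omit [Finite G] in
theorem cj_Nb (g : G) (P X : Subgroup G) : cj g (Nb P X) = Nb (cj g P) (cj g X) := by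
  rw [cj_sup, cj_Om, cj_Om]

omit [Finite G] in
theorem Nb_le_Tb : Nb P X ≤ Tb P X := sup_le_sup_right TIB.Om_le _

omit [Finite G] in
theorem Tb_le_sup : Tb P X ≤ P ⊔ X := sup_le_sup_left TIB.Om_le _

omit [Finite G] in
theorem mem_Cs_sup_of (h1 : g ∈ Cs X) (h2 : g ∈ Cs Y) : g ∈ Cs (X ⊔ Y) := mem_Cs.2 fun _ hu =>
  mem_C1.1 ((sup_le (fun u hu => mem_C1.2 (mem_Cs.1 h1 u hu))
    (fun u hu => mem_C1.2 (mem_Cs.1 h2 u hu)) : X ⊔ Y ≤ C1 g) hu)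

omit [Finite G] in
theorem Sy.self_le_Cs (h : Sy S) (hP : P ∈ S) : P ≤ Cs P := fun _ hx =>
  mem_Cs.2 fun _ hu => h.comm hP hu hx

/-- An element of `P` that centralises `Ω₁ P'` is an involution. -/
theorem Ep.mem_Om_of_cent (h : Sy S) (e : Ep S P P') (hy : y ∈ P) (hc : y ∈ Cs (Om P')) :
    y ∈ Om P := mem_Om_of hy (by_contra fun h2 =>
  let ⟨b, hb, h1⟩ := h.exists_ne e.right
  h1 (e.inj h hy h2 hb (mem_Cs.1 hc b hb).symm))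

theorem Ep.cent_Om (h : Sy S) (e : Ep S P P') (h1 : c ∈ Ns P) (h2 : c ∈ Ns P')
    (hc : c ∈ Cs (Om P)) : c ∈ Cs (Om P') := by
  obtain ⟨y, hy, y2⟩ := h.nel e.left
  have k := mem_normalizer_conj h1 (inv_mem hy)
  refine (e.one h h2 hc hy y2 (mem_Om_of ?_ ?_)).1
  · simpa only [commutatorElement_def, mul_assoc] using mul_mem hy k
  · calc ⁅y, c⁆ * ⁅y, c⁆ = y * (c * y⁻¹ * c⁻¹ * y) * (c * y⁻¹ * c⁻¹) := by
          simp only [commutatorElement_def, mul_assoc]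
      _ = y * y * c * (y * y)⁻¹ * c⁻¹ := by rw [h.comm e.left k hy]; group
      _ = 1 := by rw [mem_Cs.1 hc _ (e.sq_mem h hy)]; group

theorem Ep.mem_Ns_sup (h : Sy S) (e : Ep S P P') (hf : Full S) (hg : g ∈ Ns P)
    (hN : g ∈ Ns (Nb P P')) : g ∈ Ns (P ⊔ P') := by
  obtain ⟨y, hy, h1⟩ := e.exists_mul h hf hg hN
  exact (mul_mem_cancel_left (le_normalizer (mem_sup_left hy))).1
    (Gold.mem_Ns_sup (mul_mem (le_normalizer hy) hg) h1)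

namespace GT

theorem Nb_ne (h : Sy S) (t : GT S Z X Y) : Nb Z X ≠ Nb Z Y := fun e => by
  obtain ⟨a, ha, a1⟩ := h.exists_ne t.l.right
  obtain ⟨b, hb, b1⟩ := h.exists_ne t.r.right
  exact (t.eq_one h ha hb (comm_of_sq (fun _ => t.l.sq_Nb h) a (mem_sup_right ha) b
    (e ▸ mem_sup_right hb))).elim a1 b1

theorem cj_cases (h : Sy S) (hn : NoC S) (t : GT S Z X Y) (hg : g ∈ Ns Z) :
    cj g (Nb Z X) = Nb Z X ∨ cj g (Nb Z X) = Nb Z Y := by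
  have e := t.l.conj h g
  rw [mem_Ns_iff.1 hg] at e
  rw [cj_Nb, mem_Ns_iff.1 hg]
  exact t.Nb_cases h hn e

theorem Ns_imp (h : Sy S) (hn : NoC S) (t : GT S Z X Y) (hg : g ∈ Ns Z) (h1 : g ∈ Ns (Nb Z X)) :
    g ∈ Ns (Nb Z Y) := mem_Ns_iff.2 ((t.symm.cj_cases h hn hg).resolve_right fun e =>
  t.Nb_ne h (cj_inj.1 ((mem_Ns_iff.1 h1).trans e.symm)))

end GT

theorem GT.Ns_iff (h : Sy S) (hn : NoC S) (t : GT S Z X Y) (hg : g ∈ Ns Z) :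
    g ∈ Ns (Nb Z X) ↔ g ∈ Ns (Nb Z Y) := ⟨t.Ns_imp h hn hg, t.symm.Ns_imp h hn hg⟩

theorem GT.cj_swap (h : Sy S) (hn : NoC S) (t : GT S Z X Y) (hg : g ∈ Ns Z)
    (h1 : g ∉ Ns (Nb Z X)) : cj g (Nb Z X) = Nb Z Y :=
  (t.cj_cases h hn hg).resolve_left fun e => h1 (mem_Ns_iff.2 e)

theorem GT.mul_mem (h : Sy S) (hn : NoC S) (t : GT S Z X Y) (hx : x ∈ Ns Z) (hy : y ∈ Ns Z)
    (h1 : x ∉ Ns (Nb Z X)) (h2 : y ∉ Ns (Nb Z X)) : x * y ∈ Ns (Nb Z X) := by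
  rw [mem_Ns_iff, cj_mul, t.cj_swap h hn hy h2,
    t.symm.cj_swap h hn hx fun a => h1 (t.symm.Ns_imp h hn hx a)]

namespace GT

theorem dec (h : Sy S) (hn : NoC S) (t : GT S Z X Y) (hx : x ∈ Cs Z) :
    ∃ y ∈ Z, ∃ c ∈ Cs (Z ⊔ X), x = y * c := by
  obtain ⟨y, hy, h1⟩ := t.l.exists_mul h (t.full h) (Cs_le_Ns hx)
    (t.no_swap h hn hx (t.Ns_le h hn (Cs_le_Ns hx)))
  obtain ⟨a, ha, h2⟩ := t.l.nc h (Subgroup.mul_mem _ (h.self_le_Cs t.l.left hy) hx) h1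
  refine ⟨y⁻¹ * a⁻¹, Subgroup.mul_mem _ (inv_mem hy) (inv_mem (TIB.Om_le ha)), _, h2, ?_⟩
  rw [mul_assoc, mem_Cs.1 h2 _ (mem_sup_left (inv_mem (TIB.Om_le ha)))]; group

theorem sup_swap (h : Sy S) (hn : NoC S) (t : GT S Z X Y) (hg : g ∈ Ns Z)
    (h1 : g ∉ Ns (Nb Z X)) : cj g (Z ⊔ X) = Z ⊔ Y := by
  obtain ⟨a, ha, a1⟩ := h.exists_ne t.l.right
  obtain ⟨y, hy, e, -⟩ := t.r.exists_cj h (t.full h) (h.conj t.l.right g) (conj_mem_cj.2 (TIB.Om_le ha))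
    (t.cj_swap h hn hg h1 ▸ conj_mem_cj.2 (mem_sup_right ha)) fun k =>
      a1 (h.ti t.l.left t.l.right t.l.ne (conj_mem_cj.1 (by rwa [mem_Ns_iff.1 hg])) (TIB.Om_le ha))
  rw [cj_sup, mem_Ns_iff.1 hg, ← e, ← cj_eq_of_mem (mem_sup_left hy : y ∈ Z ⊔ Y), cj_sup,
    cj_eq_of_mem hy]

theorem eq_one_of_both (h : Sy S) (hn : NoC S) (t : GT S Z X Y) (h1 : x ∈ Cs (Z ⊔ X))
    (h2 : x ∈ Cs (Z ⊔ Y)) (h3 : x ∈ Qp Z) : x = 1 := by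
  by_contra h4
  have k : Ns Z ≤ Ns (Cs (Z ⊔ X) ⊓ Cs (Z ⊔ Y) ⊓ Qp Z) := fun g hg => by
    refine mem_Ns_inf ?_ (Local.le_normalizer_pCoreOf _ hg)
    by_cases a : g ∈ Ns (Nb Z X)
    · exact mem_Ns_inf (mem_Ns_Cs (t.l.mem_Ns_sup h (t.full h) hg a))
        (mem_Ns_Cs (t.r.mem_Ns_sup h (t.full h) hg (t.Ns_imp h hn hg a)))
    · rw [mem_Ns_iff, cj_inf, cj_Cs, cj_Cs, t.sup_swap h hn hg a,
        t.symm.sup_swap h hn hg fun b => a (t.symm.Ns_imp h hn hg b), inf_comm]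
  obtain ⟨y, hy, y2⟩ := h.nel t.l.right
  refine y2 ((t.l.nm' y hy).1 (h.mx t.l.left (fun e => h4 (mem_bot.1 (e.le (mem_inf.2 ⟨mem_inf.2 ⟨h1, h2⟩, h3⟩))))
    ((Local.isPGroup_pCoreOf _).to_le inf_le_right) k (Cs_le_Ns (mem_Cs.2 fun u hu => ?_))))
  exact (mem_Cs.1 hu.1.1 y (mem_sup_right hy)).symm

theorem eq_one_of_Q (h : Sy S) (hn : NoC S) (t : GT S Z X Y) (h1 : x ∈ Cs (Z ⊔ X))
    (h3 : x ∈ Qp Z) : x = 1 := by
  obtain ⟨y, hy, c, hc, rfl⟩ := t.symm.dec h hn (Cs_anti le_sup_left h1)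
  have hA := t.r.mem_Om_of_cent h hy ((mul_mem_cancel_right
    (Cs_anti (TIB.Om_le.trans le_sup_right) hc)).1 (Cs_anti ((t.le h hn).trans Tb_le_sup) h1))
  by_cases y1 : y = 1
  · rw [y1, one_mul] at h1 h3 ⊢
    exact t.eq_one_of_both h hn h1 hc h3
  obtain ⟨η, hη, rfl⟩ := t.full h Z t.l.left y hA
  obtain ⟨w, hw, w1, w2⟩ := h.exists_two (t.full h) t.l.left hη y1
  obtain ⟨k, hk, k1, k2, -, k3⟩ := t.l.ht h hη y1 hw w1
  have k4 := mem_normalizer_conj (mem_Ns_Cs (t.r.mem_Ns_sup h (t.full h) k1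
    (t.Ns_imp h hn k1 (mem_Ns_sup (Ns_le_Ns_Om k1) (Ns_le_Ns_Om k2))))) hc
  have k5 : (w * w)⁻¹ * (η * η) = k * c * k⁻¹ * c⁻¹ := by
    have := mem_Cs.1 h1 k hk
    rw [← k3]
    calc (k * (η * η) * k⁻¹)⁻¹ * (η * η) = k * (η * η)⁻¹ * k⁻¹ * (η * η * c * k) * k⁻¹ * c⁻¹ := by
          group
      _ = k * c * k⁻¹ * c⁻¹ := by rw [← this]; group
  exact absurd (inv_mul_eq_one.1 (t.r.eq_one h (Subgroup.mul_mem _ (inv_mem (Z.mul_mem hw hw)) hy)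
    (Cs_anti le_sup_right (k5 ▸ Subgroup.mul_mem _ k4 (inv_mem hc))))) w2

theorem eq_one_of_Cs (h : Sy S) (hn : NoC S) (t : GT S Z X Y) (h1 : c ∈ Cs (Z ⊔ X)) : c = 1 := by
  have hM := Cs_le_Ns (Cs_anti le_sup_left h1)
  refine t.eq_one_of_Q h hn h1 (h.mem_Q_of_stab t.l.left ((h.pgroup t.l.left).to_le TIB.Om_le)
    Ns_le_Ns_Om hM (Cs_anti (TIB.Om_le.trans le_sup_left) h1) fun x hx hx' => ?_)
  have a1 : ⁅x, c⁆ ∈ Qp Z := by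
    simpa only [commutatorElement_def, mul_assoc] using Subgroup.mul_mem _ hx
      (mem_normalizer_conj (Local.le_normalizer_pCoreOf _ hM) (inv_mem hx))
  have a2 : ⁅x, c⁆ ∈ Cs (Tb Z X) := Subgroup.mul_mem _ (mem_normalizer_conj
    (mem_Ns_Cs (t.Ns_le h hn (Cs_le_Ns hx'))) (Cs_anti Tb_le_sup h1)) (inv_mem (Cs_anti Tb_le_sup h1))
  obtain ⟨y, hy, d, hd, e⟩ := t.dec h hn (Cs_anti le_sup_left a2)
  rw [e] at a1
  rw [t.eq_one_of_Q h hn hd ((mul_mem_cancel_left (h.le_Q t.l.left hy)).1 a1), mul_one] at e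
  exact t.l.mem_Om_of_cent h (e ▸ hy) (Cs_anti le_sup_right a2)

end GT

theorem GT.Cs_le (h : Sy S) (hn : NoC S) (t : GT S Z X Y) : Cs Z ≤ Z := fun x hx => by
  obtain ⟨y, hy, c, hc, rfl⟩ := t.dec h hn hx
  rwa [t.eq_one_of_Cs h hn hc, mul_one]

theorem GT.mem_Tb (h : Sy S) (hn : NoC S) (t : GT S Z X Y) (hx : x ∈ Cs (Om Z))
    (h1 : x ∈ Ns (Nb Z X)) : x ∈ Tb Z X := by
  obtain ⟨a, ha, a1⟩ := h.exists_ne t.l.left
  have hM := h.mem_Ns_of_comm t.l.left (TIB.Om_le ha) a1 (mem_Cs.1 hx a ha).symm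
  have hZ : Z ≤ Cs (Om Z) := (h.self_le_Cs t.l.left).trans (Cs_anti TIB.Om_le)
  obtain ⟨y, hy, c1⟩ := t.l.exists_mul h (t.full h) hM h1
  have c2 := (Ns Z).mul_mem (le_normalizer hy) hM
  have c3 := (Cs (Om Z)).mul_mem (hZ hy) hx
  have c4 := t.l.cent_Om h c2 c1 c3
  obtain ⟨z, hz, c5⟩ := t.r.exists_mul h (t.full h) c2
    (t.Ns_imp h hn c2 (Subgroup.mul_mem _ (t.l.le_Ns_Nb h (mem_sup_left hy)) h1))
  have c6 := t.r.cent_Om h ((Ns Z).mul_mem (le_normalizer hz) c2) c5 (Subgroup.mul_mem _ (hZ hz) c3)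
  have key : ∀ {c : G}, c ∈ Cs (Om X) → c ∈ Cs (Om Y) → c ∈ Tb Z X := fun a b =>
    mem_sup_left (t.Cs_le h hn (Cs_anti le_sup_left (t.Tb_eq h hn ▸ mem_Cs_sup_of a b :
      _ ∈ Cs (Tb Z X))))
  refine (mul_mem_cancel_left (mem_sup_left hy)).1 ?_
  by_cases z2 : z * z = 1
  · exact key c4 ((mul_mem_cancel_left (mem_Cs.2 fun u hu =>
      (t.r.comm h (mem_Om_of hz z2) hu).symm)).1 c6)
  · obtain ⟨b, hb, -, hi⟩ := t.l.exists_inv h hz z2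
    refine (mul_mem_cancel_left (inv_mem (mem_sup_right hb))).1 (key (Subgroup.mul_mem _
      (inv_mem (Cs_anti TIB.Om_le (h.self_le_Cs t.l.right (TIB.Om_le hb)))) c4) ?_)
    simpa only [mul_inv_rev, mul_assoc, inv_mul_cancel_left] using
      Subgroup.mul_mem _ (inv_mem (t.symm.cent h hz z2 hb hi)) c6

/-- Strong closure. -/
theorem GT.sc (h : Sy S) (hn : NoC S) (t : GT S Z X Y) (hx : x ∈ Tb Z X)
    (hg : g * x * g⁻¹ ∈ Ns Z) : g * x * g⁻¹ ∈ Tb Z X := by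
  have hZ := t.l.left
  by_cases x2 : x * x = 1
  · by_cases x1 : g * x * g⁻¹ = 1
    · exact x1 ▸ one_mem _
    obtain ⟨k, hk⟩ : ∃ k, k * x * k⁻¹ ∈ Om Z := (t.iv h hn hx x2).elim
      (fun a => (t.l.part' h (t.full h) a).imp fun _ => And.right)
      fun a => (t.r.part' h (t.full h) a).imp fun _ => And.right
    have h1 : g * x * g⁻¹ ∈ cj (g * k⁻¹) Z := mem_cj.2 (by convert TIB.Om_le hk using 1; group)
    rcases h.cases_of_mem (h.conj hZ _) hZ h1 x1 hg with e | e | e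
    · exact mem_sup_left (e ▸ h1)
    · exact absurd e (hn _ _)
    · have h2 : g * x * g⁻¹ ∈ Nb Z (cj (g * k⁻¹) Z) :=
        mem_sup_right (mem_Om_of h1 (by rw [conj_mul', x2]; group))
      rcases t.Nb_cases h hn e.symm with a | a <;> rw [a] at h2
      exacts [Nb_le_Tb h2, t.Tb_symm h hn ▸ Nb_le_Tb h2]
  have h1 : x ∈ Ns (cj g⁻¹ Z) := cj_Ns g⁻¹ Z ▸ mem_cj_inv.2 hg
  have h2 : x * x ∈ Z := by
    obtain ⟨y, hy, a, ha, rfl⟩ := (t.l.mem_Tb h).1 hx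
    convert Z.mul_mem hy (mem_normalizer_conj (t.l.symm.le_Ns h ha) hy) using 1
    rw [inv_eq_of_sq (h.sq t.l.right ha)]; group
  rcases h.cases_of_mem hZ (h.conj hZ g⁻¹) h2 x2 (Subgroup.mul_mem _ h1 h1) with e | e | e
  · exact mem_normalizer_conj (t.Ns_le h hn (mem_Ns_iff.2 (cj_eq_iff_eq_cj_inv.2 e))) hx
  · exact absurd e (hn _ _)
  have key : ∀ {W : Subgroup G}, Ep S Z W → x ∈ Tb Z W → Nb Z (cj g⁻¹ Z) ≠ Nb Z W := fun f hx k => by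
    obtain ⟨y, hy, a, ha, rfl⟩ := (f.mem_Tb h).1 hx
    have h3 : a ∈ Ns (cj g⁻¹ Z) :=
      (sup_le (e.le_Ns h) (TIB.Om_le.trans le_normalizer) : Nb _ _ ≤ _) (k.ge (mem_sup_right ha))
    exact x2 (f.sq_Nb h (Subgroup.mul_mem _ (mem_sup_left (mem_Om_of hy
      ((e.nm y hy).1 ((mul_mem_cancel_right h3).1 h1)))) (mem_sup_right ha)))
  exact ((t.Nb_cases h hn e).elim (key t.l hx) (key t.r (t.Tb_symm h hn ▸ hx))).elim

end Cfsg.Lib.TIB
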