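import Cfsg.Agent.TIB.GT

/-! # Good triples: `Ω₁` has order four -/

set_option autoImplicit false

namespace Cfsg.Lib.TIB

open Subgroup Cfsg.Lib.Trans Cfsg.Lib.Gold Cfsg.Lib.TIM
open scoped commutatorElement

variable {G : Type*} [Group G] [Finite G] {S : Set (Subgroup G)}
  {P P' X Y Z : Subgroup G} {a b c x y w u v : G}

omit [Finite G] in
theorem Sy.sq_mul (h : Sy S) (hP : P ∈ S) (hy : y ∈ P) (hw : w ∈ P) :
    y * w * (y * w) = y * y * (w * w) := by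
  rw [mul_assoc, ← mul_assoc w, h.comm hP hw hy]; group

theorem Ep.split (h : Sy S) (e : Ep S P P') {a' b' : G} (ha : a ∈ Om P) (hb : b ∈ Om P')
    (ha' : a' ∈ Om P) (hb' : b' ∈ Om P') (k : a * b = b' * a') : a = a' ∧ b = b' := by
  rw [← e.comm h ha' hb'] at k
  have k1 : a'⁻¹ * a = b' * b⁻¹ := by rw [eq_mul_inv_iff_mul_eq, mul_assoc, k]; group
  have k2 := h.ti e.left e.right e.ne (Om_le (mul_mem (inv_mem ha') ha))
    (k1 ▸ Om_le (mul_mem hb' (inv_mem hb)))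
  exact ⟨(inv_mul_eq_one.1 k2).symm, (mul_inv_eq_one.1 (k1 ▸ k2)).symm⟩

theorem Ep.comm_mul_right (h : Sy S) (e : Ep S P P') (hy : y ∈ P) (hb : b ∈ Om P')
    (hc : c ∈ Om P') : ⁅y, b * c⁆ = ⁅y, b⁆ * ⁅y, c⁆ := by
  calc ⁅y, b * c⁆ = ⁅y, b⁆ * (b * ⁅y, c⁆) * b⁻¹ := by simp only [commutatorElement_def]; group
    _ = _ := by rw [← e.comm h (e.quad h hy hc) hb]; group

theorem Ep.comm_mul_left (h : Sy S) (e : Ep S P P') (hy : y ∈ P) (hw : w ∈ P) (hb : b ∈ Om P') :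
    ⁅y * w, b⁆ = ⁅y, b⁆ * ⁅w, b⁆ := h.comm_mul_left e.left (e.symm.le_Ns h hb) hy hw

/-- The partner `x ∈ X` of `y`. -/
structure Io (X : Subgroup G) (y x : G) : Prop where
  mem : x ∈ X
  inv : ∀ c ∈ Om X, ⁅x, ⁅y, c⁆⁆ = c
  sq : x * x * y * (x * x) = y⁻¹

theorem Ep.exists_io (h : Sy S) (e : Ep S Z X) (hf : Full S) (hy : y ∈ Z) (h2 : y * y ≠ 1) :
    ∃ x, Io X y x := by
  obtain ⟨b, hb, b1⟩ := h.exists_ne e.right
  have ha := e.quad h hy hb
  have cj1 : ∀ y b : G, y * b * y⁻¹ = ⁅y, b⁆ * b := fun y b => by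
    rw [commutatorElement_def, inv_mul_cancel_right]
  have k1 := cj1 y b
  have a1 : ⁅y, b⁆ ≠ 1 := fun k => b1 (e.inj h hy h2 hb (commutatorElement_eq_one_iff_mul_comm.1 k))
  generalize ⁅y, b⁆ = a at ha k1 a1
  obtain ⟨x, hx, k2⟩ := e.symm.part h hf hb ha a1
  have hR : cj y X = cj x Z := h.eq_of_mem (h.conj e.right y) (h.conj e.left x)
    (conj_mem_cj.2 (Om_le hb)) (by rw [k1, e.comm h ha hb, ← k2]; exact conj_mem_cj.2 (Om_le ha))
    fun k => b1 (conj_eq_one_iff.1 k)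
  refine ⟨x, hx, fun c hc => ?_, ?_⟩
  · have k3 : x⁻¹ * (y * c * y⁻¹) * x ∈ Om Z := by
      rw [← mem_cj, cj_Om, ← hR, ← cj_Om]; exact conj_mem_cj.2 hc
    obtain ⟨k4, k5⟩ := e.split h (e.quad h hy hc) hc k3 (e.symm.quad h hx k3)
      (by rw [← cj1, ← cj1]; group)
    rw [k4, ← k5]
  have s1 : x * y * x⁻¹ ∈ cj y X := hR ▸ conj_mem_cj.2 hy
  have s2 : y * x * y⁻¹ ∈ cj y X := conj_mem_cj.2 hx
  have e' := e.conj h y
  rw [cj_eq_of_mem hy] at e'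
  have x2 := e.symm.sq_mem h hx
  have y2 := e.sq_mem h hy
  have ya := h.comm e.left hy (Om_le ha)
  have k3 : y * (b * a) * y⁻¹ = b := by
    calc y * (b * a) * y⁻¹ = y * b * y⁻¹ * (y * a) * y⁻¹ := by group
      _ = a * b * a := by rw [k1, ya]; group
      _ = b := by rw [e.comm h ha hb, mul_assoc, h.sq e.left ha, mul_one]
  have k4 : x⁻¹ * a * x = b * a := by
    calc x⁻¹ * a * x = x * (x * x)⁻¹ * (a * (x * x)) * x⁻¹ := by group
      _ = b * a := by rw [e.comm h ha x2, ← k2]; group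
  have k5 : (y * x * y⁻¹)⁻¹ * (x * y * x⁻¹) * a = a * ((y * x * y⁻¹)⁻¹ * (x * y * x⁻¹)) := by
    have l1 : x * y * x⁻¹ * a = b * (x * y * x⁻¹) := by
      calc x * y * x⁻¹ * a = x * (y * (x⁻¹ * a * x) * y⁻¹) * (y * x⁻¹) := by group
        _ = _ := by rw [k4, k3, h.comm e.right hx (Om_le hb)]; group
    have l2 : y * x * y⁻¹ * a = b * (y * x * y⁻¹) := by
      calc y * x * y⁻¹ * a = y * x * y⁻¹ * (a * y) * y⁻¹ := by group
        _ = y * (x * a * x⁻¹) * y⁻¹ * (y * x * y⁻¹) := by rw [← ya]; group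
        _ = _ := by rw [k2, k3]
    rw [mul_assoc, l1, ← mul_assoc, ← mul_assoc _ _ (x * y * x⁻¹), inv_mul_eq_iff_eq_mul.2 l2.symm
      |> fun k => (by rw [← k]; group : (y * x * y⁻¹)⁻¹ * b = a * (y * x * y⁻¹)⁻¹)]
  have k6 := (e'.nm' _ (mul_mem (inv_mem s2) s1)).1 (h.mem_Ns_of_comm e.left (Om_le ha) a1 k5)
  rw [h.sq_mul e'.right (inv_mem s2) s1, ← mul_inv_rev, inv_mul_eq_one, conj_mul', conj_mul', cj1,
    cj1] at k6
  have k7 := (e.split h (e.quad h hy x2) x2 y2 (e.symm.quad h hx y2) k6).1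
  rw [commutatorElement_def, mul_assoc, mul_assoc, mul_right_inj] at k7
  have k8 := congrArg (·⁻¹) k7
  have k9 := inv_eq_of_sq (h.sq e.right x2)
  generalize x * x = z at k8 k9 ⊢
  simpa only [mul_inv_rev, inv_inv, k9] using k8

theorem GT.io_mul (h : Sy S) (t : GT S Z X Y) (hy : y ∈ Z) (hw : w ∈ Z) (y2 : y * y ≠ 1)
    (w2 : w * w ≠ 1) (h2 : y * w * (y * w) ≠ 1) (i : Io X y u) (j : Io X w v) :
    Io X (y * w) (u * v) := by
  have hX := t.l.right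
  obtain ⟨x, k⟩ := t.l.exists_io h (t.full h) (mul_mem hy hw) h2
  have u2 := t.l.symm.sq_mem h i.mem
  have v2 := t.l.symm.sq_mem h j.mem
  have m := mul_mem i.mem j.mem
  have e := t.l.inv_uniq h (mul_mem hy hw) h2 (t.l.symm.sq_mem h k.mem) (mul_mem u2 v2) k.sq
    (t.inv_mul h hy hw y2 w2 u2 v2 i.sq j.sq)
  rw [← h.sq_mul hX i.mem j.mem] at e
  refine ⟨m, fun c hc => ?_, e ▸ k.sq⟩
  have hd := t.l.quad h (mul_mem hy hw) hc
  have h3 : x * (u * v)⁻¹ ∈ Om X := mem_Om_of (mul_mem k.mem (inv_mem m)) (by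
    rw [h.sq_mul hX k.mem (inv_mem m), e, ← mul_inv_rev, mul_inv_cancel])
  have h4 := t.l.symm.comm_mul_left h (Om_le h3) m hd
  rw [inv_mul_cancel_right, k.inv c hc,
    commutatorElement_eq_one_iff_mul_comm.2 (t.l.comm h hd h3).symm, one_mul] at h4
  exact h4.symm

theorem Ep.io_cross (h : Sy S) (e : Ep S Z X) (hy : y ∈ Z) (hw : w ∈ Z) (i : Io X y u)
    (j : Io X w v) (k : Io X (y * w) (u * v)) (hc : c ∈ Om X) :
    ⁅u, ⁅w, c⁆⁆ * ⁅v, ⁅y, c⁆⁆ = c := by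
  have a1 := e.quad h hy hc
  have a2 := e.quad h hw hc
  have := k.inv c hc
  rw [e.comm_mul_left h hy hw hc, e.symm.comm_mul_left h i.mem j.mem (mul_mem a1 a2),
    e.symm.comm_mul_right h i.mem a1 a2, e.symm.comm_mul_right h j.mem a1 a2, i.inv c hc,
    j.inv c hc, mul_assoc, mul_eq_left, ← mul_assoc, mul_eq_one_iff_eq_inv] at this
  rw [this, inv_eq_of_sq (h.sq e.right hc)]

theorem GT.card (h : Sy S) (t : GT S Z X Y) : Nat.card (Om Z) = 4 := by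
  have hZ := t.l.left
  obtain ⟨a, ha, a1⟩ := h.exists_ne hZ
  obtain ⟨b, hb, b1, ba⟩ := h.exists_third hZ a
  have ne : ∀ {a b : G}, a ∈ Om Z → b ≠ a → a * b ≠ 1 := fun ha k e =>
    k (mul_left_cancel (e.trans (h.sq hZ ha).symm))
  by_cases h4 : (Om Z : Set G) ⊆ {1, a, b, a * b}
  · have h1 : (Om Z : Set G) = {1, a, b, a * b} := h4.antisymm (by
      rintro _ (rfl | rfl | rfl | rfl); exacts [one_mem _, ha, hb, mul_mem ha hb])
    rw [← SetLike.coe_sort_coe, h1, Nat.card_coe_set_eq, Set.ncard_insert_of_notMem,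
      Set.ncard_insert_of_notMem, Set.ncard_pair]
    · exact fun e => a1 (by simpa using e)
    · rintro (e | e)
      exacts [ba e.symm, b1 (by simpa using e)]
    · rintro (e | e | e)
      exacts [a1 e.symm, b1 e.symm, ne ha ba e.symm]
  obtain ⟨d, hd, h5⟩ := Set.not_subset.1 h4
  simp only [Set.mem_insert_iff, Set.mem_singleton_iff, not_or] at h5
  obtain ⟨d1, da, db, dab⟩ := h5
  have n4 := ne (mul_mem ha hb) dab
  have n1 := ne ha ba
  have n2 := ne ha da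
  have n3 := ne hb db
  obtain ⟨y, hy, rfl⟩ := t.full h Z hZ a ha
  obtain ⟨w, hw, rfl⟩ := t.full h Z hZ b hb
  obtain ⟨v, hv, rfl⟩ := t.full h Z hZ d hd
  rw [mul_assoc, ← h.sq_mul hZ hw hv, ← h.sq_mul hZ hy (mul_mem hw hv)] at n4
  rw [← h.sq_mul hZ hy hw] at n1
  rw [← h.sq_mul hZ hy hv] at n2
  rw [← h.sq_mul hZ hw hv] at n3
  obtain ⟨y', i⟩ := t.l.exists_io h (t.full h) hy a1
  obtain ⟨w', j⟩ := t.l.exists_io h (t.full h) hw b1
  obtain ⟨v', k⟩ := t.l.exists_io h (t.full h) hv d1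
  obtain ⟨c, hc, c1⟩ := h.exists_ne t.l.right
  have l := t.io_mul h hw hv b1 d1 n3 j k
  have f1 := t.l.io_cross h hy hw i j (t.io_mul h hy hw a1 b1 n1 i j) hc
  have f2 := t.l.io_cross h hy hv i k (t.io_mul h hy hv a1 d1 n2 i k) hc
  have f3 := t.l.io_cross h hy (mul_mem hw hv) i l (t.io_mul h hy (mul_mem hw hv) a1 n3 n4 i l) hc
  have q := fun {y} (hy : y ∈ Z) => t.l.quad h hy hc
  rw [t.l.comm_mul_left h hw hv hc, t.l.symm.comm_mul_right h i.mem (q hw) (q hv),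
    t.l.symm.comm_mul_left h j.mem k.mem (q hy), mul_assoc, ← mul_assoc ⁅y', ⁅v, c⁆⁆,
    h.comm t.l.right (Om_le (t.l.symm.quad h i.mem (q hv))) (Om_le (t.l.symm.quad h j.mem (q hy))),
    mul_assoc, f2, ← mul_assoc, f1, h.sq t.l.right hc] at f3
  exact absurd f3.symm c1

end Cfsg.Lib.TIB
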