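import Cfsg.Agent.TIB.Basic

/-! # TIB: good triples -/

set_option autoImplicit false

namespace Cfsg.Lib.TIB

open Subgroup Cfsg.Lib.Trans Cfsg.Lib.Gold Cfsg.Lib.TIM
open scoped commutatorElement

variable {G : Type*} [Group G] {S : Set (Subgroup G)}
  {P X Y Z : Subgroup G} {a b c x y w η : G}

theorem Sy.mem_Om_of_sq_eq (h : Sy S) (hP : P ∈ S) (hy : y ∈ P) (hw : w ∈ P)
    (e : y * y = w * w) : w⁻¹ * y ∈ Om P := by
  refine mem_Om_of (mul_mem (inv_mem hw) hy) ?_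
  calc w⁻¹ * y * (w⁻¹ * y) = w⁻¹ * (y * w⁻¹) * y := by group
    _ = (w * w)⁻¹ * (y * y) := by rw [h.comm hP hy (inv_mem hw)]; group
    _ = 1 := by rw [e, inv_mul_cancel]

theorem Ep.inv_of_sq_eq (h : Sy S) (e : Ep S P X) (hy : y ∈ P) (hw : w ∈ P) (q : y * y = w * w)
    (hb : b ∈ Om X) (hi : b * w * b = w⁻¹) : b * y * b = y⁻¹ := by
  have m := h.mem_Om_of_sq_eq e.left hy hw q
  calc b * y * b = b * w * (w⁻¹ * y * b) := by group
    _ = b * w * b * (w⁻¹ * y) := by rw [e.comm h m hb]; group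
    _ = w⁻¹ * (w⁻¹ * y)⁻¹ := by rw [hi, inv_eq_of_mul_eq_one_right (h.sq e.left m)]
    _ = y⁻¹ := by rw [h.comm e.left (inv_mem hw) (inv_mem (Om_le m))]; group

/-- Two elements `y, w` of `P` with `y², w², (y w)² ≠ 1`. -/
theorem Sy.exists_two (h : Sy S) (hf : Full S) (hP : P ∈ S) (_hy : y ∈ P) (_h2 : y * y ≠ 1) :
    ∃ w ∈ P, w * w ≠ 1 ∧ w * w ≠ y * y := by
  obtain ⟨b, hb, h1, h3⟩ := h.exists_third hP (y * y)
  obtain ⟨w, hw, rfl⟩ := hf P hP b hb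
  exact ⟨w, hw, h1, h3⟩

namespace GT

theorem eq_one (h : Sy S) (t : GT S Z X Y) (ha : a ∈ Om X) (hb : b ∈ Om Y) (hc : a * b = b * a) :
    a = 1 ∨ b = 1 := by
  refine or_iff_not_imp_left.2 fun a1 => ?_
  obtain ⟨η, hη, h2, h3, -⟩ := t.hl a ha a1
  refine t.r.inj h hη h2 hb (mul_right_cancel (b := a) ?_)
  rw [mul_assoc, ← hc, ← mul_assoc, ← mem_Cs.1 h3 b hb, mul_assoc]

variable [Finite G]

theorem exists_root (h : Sy S) (t : GT S Z X Y) (ha : a ∈ Om Z) (a1 : a ≠ 1) :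
    ∃ η ∈ Z, η * η = a ∧ ∃ b ∈ Om Y, η * b ∈ Cs (Om X) ∧ b * η * b = η⁻¹ := by
  have k : ∀ b : Om Y, ∃ η ∈ Z, (η * η = 1 ↔ b = 1) ∧ η * b ∈ Cs (Om X) ∧ b * η * b = η⁻¹ :=
    fun b => by
      by_cases b1 : b = 1
      · exact ⟨1, one_mem _, by simp [b1], by simp [b1], by simp [b1]⟩
      · obtain ⟨η, h1, h2, h3⟩ := t.hr b b.2 fun q => b1 (Subtype.ext q)
        exact ⟨η, h1, iff_of_false h2 b1, h3⟩
  choose f f1 f2 f3 f4 using k
  let φ : Om Y → Om Z := fun b => ⟨f b * f b, t.r.sq_mem h (f1 b)⟩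
  have hφ : Function.Injective φ := fun b c q => by
    have q' : f b * f b = f c * f c := congrArg Subtype.val q
    by_cases b1 : b = 1
    · rw [b1, (f2 c).1 (q' ▸ (f2 b).2 b1)]
    · exact Subtype.ext (t.r.inv_uniq h (f1 b) (fun e => b1 ((f2 b).1 e)) b.2 c.2 (f4 b)
        (t.r.inv_of_sq_eq h (f1 b) (f1 c) q' c.2 (f4 c)))
  obtain ⟨b, hb⟩ := ((Nat.bijective_iff_injective_and_card φ).2
    ⟨hφ, Ep.card_Om h t.r.right t.r.left⟩).2 ⟨a, ha⟩
  have _ := a1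
  exact ⟨f b, f1 b, congrArg Subtype.val hb, b, b.2, f3 b, f4 b⟩

theorem full (h : Sy S) (t : GT S Z X Y) : Full S := fun P hP a ha => by
  by_cases a1 : a = 1
  · exact ⟨1, one_mem _, by rw [a1, mul_one]⟩
  obtain ⟨g, rfl⟩ := h.trans t.l.left hP
  rw [← cj_Om, mem_cj] at ha
  obtain ⟨η, h1, h2, -⟩ := t.exists_root h ha fun q => a1 (by
    calc a = g * (g⁻¹ * a * g) * g⁻¹ := by group
      _ = 1 := by rw [q]; group)
  exact ⟨g * η * g⁻¹, conj_mem_cj.2 h1, by rw [conj_mul', h2]; group⟩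

theorem cent (h : Sy S) (t : GT S Z X Y) (hη : η ∈ Z) (h2 : η * η ≠ 1) (hb : b ∈ Om Y)
    (hi : b * η * b = η⁻¹) : η * b ∈ Cs (Om X) := by
  obtain ⟨y, hy, q, c, hc, h3, h4⟩ := t.exists_root h (t.l.sq_mem h hη) h2
  obtain rfl := t.r.inv_uniq h hη h2 hb hc hi (t.r.inv_of_sq_eq h hη hy q.symm hc h4)
  have m := h.mem_Om_of_sq_eq t.l.left hη hy q.symm
  have : η * b = y⁻¹ * η * (y * b) := by rw [h.comm t.l.left (inv_mem hy) hη]; group
  rw [this]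
  exact mul_mem (mem_Cs.2 fun u hu => (t.l.comm h m hu).symm) h3

/-- Additivity of `η ↦` the element inverting `η`. -/
theorem inv_mul (h : Sy S) (t : GT S Z X Y) (hy : y ∈ Z) (hw : w ∈ Z) (hy2 : y * y ≠ 1)
    (hw2 : w * w ≠ 1) (ha : a ∈ Om X) (hb : b ∈ Om X) (hi : a * y * a = y⁻¹)
    (hj : b * w * b = w⁻¹) : a * b * (y * w) * (a * b) = (y * w)⁻¹ := by
  by_cases q : y * w * (y * w) = 1
  · have q' : w * w = y * y := by
      rw [← inv_eq_of_mul_eq_one_right (h.sq t.l.left (t.l.sq_mem h hy))]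
      refine eq_inv_of_mul_eq_one_right ?_
      calc y * y * (w * w) = y * (y * w) * w := by group
        _ = 1 := by rw [h.comm t.l.left hy hw, ← q]; group
    rw [t.l.inv_uniq h hw hw2 hb ha hj (t.l.inv_of_sq_eq h hw hy q' ha hi), h.sq t.l.right ha,
      inv_eq_of_mul_eq_one_right q, one_mul, mul_one]
  obtain ⟨c, hc, -, hk⟩ := t.l.exists_inv h (mul_mem hy hw) q
  have c1 := t.symm.cent h hy hy2 ha hi
  have c2 := t.symm.cent h hw hw2 hb hj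
  have c3 := t.symm.cent h (mul_mem hy hw) q hc hk
  have m := t.l.quad h (inv_mem hw) ha
  have c4 : ⁅w⁻¹, a⁆ ∈ Cs (Om Y) := mem_Cs.2 fun u hu => (t.r.comm h m hu).symm
  have c5 := mul_mem (inv_mem c4) (mul_mem (inv_mem c3) (mul_mem c1 c2))
  have e : ⁅w⁻¹, a⁆⁻¹ * ((y * w * c)⁻¹ * (y * a * (w * b))) = c⁻¹ * (a * b) := by
    calc _ = ⁅w⁻¹, a⁆⁻¹ * c⁻¹ * ⁅w⁻¹, a⁆ * (a * b) := by simp only [commutatorElement_def]; group
      _ = _ := by rw [t.l.comm h (inv_mem m) (inv_mem hc)]; group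
  rw [e] at c5
  obtain ⟨u, hu, u1⟩ := h.exists_ne t.r.right
  rw [← inv_mul_eq_one.1 ((t.eq_one h (mul_mem (inv_mem hc) (mul_mem ha hb)) hu
    (mem_Cs.1 c5 u hu).symm).resolve_right u1), hk]

theorem mul_cent (h : Sy S) (t : GT S Z X Y) (hη : η ∈ Z) (h2 : η * η ≠ 1) (ha : a ∈ Om X)
    (hb : b ∈ Om Y) (hi : a * η * a = η⁻¹) (hj : b * η * b = η⁻¹) : a * b ∈ Cs Z := by
  refine mem_Cs.2 fun y hy => ?_
  by_cases y2 : y * y = 1
  · have m := mem_Om_of hy y2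
    rw [← mul_assoc, t.l.comm h m ha, mul_assoc, t.r.comm h m hb, mul_assoc]
  obtain ⟨c, hc, -, hk⟩ := t.l.exists_inv h hy y2
  have a2 := h.sq t.l.right ha
  have b2 := h.sq t.r.right hb
  have c2 := h.sq t.l.right hc
  have m1 := t.l.quad h hy ha
  have m2 := t.l.quad h hη hc
  have e1 : ⁅y, a⁆ = ⁅η, c⁆ := by
    have q := (Ep.inv_iff (h.sq t.l.right (mul_mem ha hc))).1 (t.inv_mul h hη hy h2 y2 ha hc hi hk)
    rw [h.comm_mul_left t.l.left (t.l.symm.le_Ns h (mul_mem ha hc)) hη hy, t.l.comm_mul h hη ha hc,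
      t.l.comm_mul h hy ha hc, (Ep.inv_iff a2).1 hi, (Ep.inv_iff c2).1 hk] at q
    have q2 : η * y * (η * y) = η * η * 1 * (y * y) := by
      calc η * y * (η * y) = η * (y * η) * y := by group
        _ = _ := by rw [h.comm t.l.left hy hη]; group
    rw [q2, ← mul_assoc, mul_left_inj, mul_assoc (η * η), mul_right_inj] at q
    rw [eq_inv_of_mul_eq_one_right q, inv_eq_of_mul_eq_one_right (h.sq t.l.left m2)]
  have k : ∀ {X Y : Subgroup G} {y b c : G}, Ep S Z Y → y ∈ Z → b ∈ Om Y → c * c = 1 →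
      y * c ∈ Cs (Om Y) → ⁅y, b⁆ = c * b * c * b := fun {X Y y b c} e hy hb c2 q => by
    have q1 := mem_Cs.1 q b hb
    have q2 := h.comm_mul_left e.left (e.symm.le_Ns h hb) hy (inv_mem hy)
    rw [mul_inv_cancel, commutatorElement_one_left] at q2
    rw [← inv_eq_of_mul_eq_one_right (h.sq e.left (e.quad h hy hb)),
      inv_eq_of_mul_eq_one_right q2.symm, commutatorElement_def, inv_inv,
      inv_eq_of_mul_eq_one_right (h.sq e.right hb)]
    calc y⁻¹ * b * y * b = y⁻¹ * (b * (y * c)) * c⁻¹ * b := by group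
      _ = _ := by rw [q1, inv_eq_of_mul_eq_one_right c2]; group
  have e2 := k (X := X) t.r hy hb c2 (t.symm.cent h hy y2 hc hk)
  have e3 := k (X := X) t.l hη hc b2 (t.cent h hη h2 hb hj)
  have e4 : ⁅y, a * b⁆ = ⁅y, a⁆ * (a * ⁅y, b⁆ * a⁻¹) := by simp only [commutatorElement_def]; group
  rw [← t.l.comm h (t.r.quad h hy hb) ha, mul_inv_cancel_right, e1, e2, e3] at e4
  refine commutatorElement_eq_one_iff_mul_comm.1 (e4.trans ?_)
  calc b * c * b * c * (c * b * c * b) = b * c * b * (c * c) * b * c * b := by group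
    _ = b * c * (b * b) * c * b := by rw [c2]; group
    _ = b * (c * c) * b := by rw [b2]; group
    _ = 1 := by rw [c2, mul_one, b2]

theorem rho (h : Sy S) (t : GT S Z X Y) (hη : η ∈ Z) (h2 : η * η ≠ 1) (ha : a ∈ Om X)
    (hb : b ∈ Om Y) (hi : a * η * a = η⁻¹) (hj : b * η * b = η⁻¹) :
    ∃ α ∈ Om Z, η * b * a * α ∈ Cs (Z ⊔ X) := by
  have c1 := inv_mem (t.mul_cent h hη h2 ha hb hi hj)
  rw [mul_inv_rev, inv_eq_of_mul_eq_one_right (h.sq t.l.right ha),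
    inv_eq_of_mul_eq_one_right (h.sq t.r.right hb)] at c1
  obtain ⟨u, hu, u1⟩ := h.exists_ne t.l.right
  refine t.l.nc h ?_ (mul_mem (h.mem_Ns_of_comm t.l.right (Om_le hu) u1
    (mem_Cs.1 (t.cent h hη h2 hb hj) u hu).symm) (le_normalizer (Om_le ha)))
  rw [mul_assoc]
  exact mul_mem (mem_Cs.2 fun u hu => h.comm t.l.left hu hη) c1

end GT

end Cfsg.Lib.TIB
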