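import Cfsg.Agent.TIB.Tools
import Cfsg.Agent.S1781

/-! # TIB: the types of pairs of points -/

set_option autoImplicit false

namespace Cfsg.Lib.TIB

open Subgroup Cfsg.Lib.Trans Cfsg.Lib.Gold Cfsg.Lib.TIM
open scoped commutatorElement

variable {G : Type*} [Group G] {S : Set (Subgroup G)}
  {P P' F N U : Subgroup G} {a b c g x y w u v s t : G}

/-- Passing to `N(N)/N` for two elements whose squares lie in `N`. -/
theorem lift_mod (hs : s ∈ Ns N) (ht : t ∈ Ns N) (hs2 : s * s ∈ N) (ht2 : t * t ∈ N) :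
    ∃ π : Ns N →* Ns N ⧸ N.subgroupOf (Ns N), (∀ x : Ns N, π x = 1 ↔ x.1 ∈ N) ∧
      (∀ x y : Ns N, π x = π y → x.1⁻¹ * y.1 ∈ N) ∧ π ⟨s, hs⟩ * π ⟨s, hs⟩ = 1 ∧
      π ⟨t, ht⟩ * π ⟨t, ht⟩ = 1 := by
  let π : Ns N →* Ns N ⧸ N.subgroupOf (Ns N) := QuotientGroup.mk' _
  have k : ∀ x : Ns N, π x = 1 ↔ x.1 ∈ N := fun x =>
    (QuotientGroup.eq_one_iff _).trans mem_subgroupOf
  exact ⟨π, k, fun x y e => mem_subgroupOf.1 (QuotientGroup.eq.1 e),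
    (map_mul π _ _).symm.trans ((k (⟨s, hs⟩ * ⟨s, hs⟩)).2 hs2),
    (map_mul π _ _).symm.trans ((k (⟨t, ht⟩ * ⟨t, ht⟩)).2 ht2)⟩

theorem odd_or [Finite G] (hs : s ∈ Ns N) (ht : t ∈ Ns N) (hs2 : s * s ∈ N) (ht2 : t * t ∈ N) :
    (∃ k : ℕ, (s * t) ^ (2 * k + 1) ∈ N) ∨
      ∃ z ∈ Ns N, z ∉ N ∧ s⁻¹ * (z * s * z⁻¹) ∈ N ∧ t⁻¹ * (z * t * z⁻¹) ∈ N ∧
        (∃ d ∈ Ns N, (z * s)⁻¹ * (d * s * d⁻¹) ∈ N ∨ (z * s)⁻¹ * (d * t * d⁻¹) ∈ N) ∧
        ∃ d ∈ Ns N, (z * t)⁻¹ * (d * t * d⁻¹) ∈ N ∨ (z * t)⁻¹ * (d * s * d⁻¹) ∈ N := by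
  let π : Ns N →* Ns N ⧸ N.subgroupOf (Ns N) := QuotientGroup.mk' _
  have k : ∀ x : Ns N, π x = 1 ↔ x.1 ∈ N := fun x =>
    (QuotientGroup.eq_one_iff _).trans mem_subgroupOf
  have key : ∀ x y : Ns N, π x = π y → x.1⁻¹ * y.1 ∈ N := fun x y e =>
    mem_subgroupOf.1 (QuotientGroup.eq.1 e)
  let s' : Ns N := ⟨s, hs⟩
  let t' : Ns N := ⟨t, ht⟩
  have h1 : π s' * π s' = 1 := by rw [← map_mul]; exact (k _).2 hs2
  have h2 : π t' * π t' = 1 := by rw [← map_mul]; exact (k _).2 ht2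
  have sj : Function.Surjective π := QuotientGroup.mk'_surjective _
  rcases Nat.even_or_odd (orderOf (π s' * π t')) with he | ⟨m, hm⟩
  · obtain ⟨z, -, z1, -, zs, zt, hd⟩ := dihedral_even h1 h2 he
    obtain ⟨z, rfl⟩ := sj z
    refine Or.inr ⟨z, z.2, fun hn => z1 ((k _).2 hn), key s' (z * s' * z⁻¹) (by simp [zs]),
      key t' (z * t' * z⁻¹) (by simp [zt]), ?_⟩
    rcases hd with ⟨d, -, -, e, e'⟩ | ⟨d, -, e, e'⟩ <;> obtain ⟨d, rfl⟩ := sj d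
    · exact ⟨⟨d, d.2, Or.inl (key (z * s') (d * s' * d⁻¹) (by simp [e]))⟩,
        d, d.2, Or.inl (key (z * t') (d * t' * d⁻¹) (by simp [e']))⟩
    · exact ⟨⟨d, d.2, Or.inr (key (z * s') (d * t' * d⁻¹) (by simp [e]))⟩,
        d⁻¹, inv_mem d.2, Or.inr (key (z * t') (d⁻¹ * s' * d⁻¹⁻¹) (by simp [e']))⟩
  · refine Or.inl ⟨m, (k ((s' * t') ^ (2 * m + 1))).1 ?_⟩
    rw [map_pow, map_mul, ← hm, pow_orderOf_eq_one]

theorem dih_swap {Q : Type*} [Group Q] {s t : Q} (hs : s * s = 1) (ht : t * t = 1) {k : ℕ}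
    (h : (s * t) ^ (2 * k + 1) = 1) : (s * t) ^ k * s * s * ((s * t) ^ k * s)⁻¹ = t ∧
      (s * t) ^ k * s * t * ((s * t) ^ k * s)⁻¹ = s := by
  have h1 := dihedral_inv hs ht k
  rw [zpow_neg, zpow_natCast] at h1
  have h2 : (s * t) ^ k * (s * t) ^ k * (s * t) = 1 := by
    rw [← h, pow_succ, two_mul, pow_add]
  have is := inv_eq_of_mul_eq_one_right hs
  generalize (s * t) ^ k = r at h1 h2
  have h3 : s * r⁻¹ = r * s := by
    calc s * r⁻¹ = s * (r⁻¹ * s) * s⁻¹ := by group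
      _ = s * s * r * s⁻¹ := by rw [← h1]; group
      _ = _ := by rw [hs, is, one_mul]
  have h4 : r * s * s * (r * s)⁻¹ = t := by
    calc r * s * s * (r * s)⁻¹ = r * (s * r⁻¹) := by group
      _ = r * r * (s * t) * t⁻¹ := by rw [h3]; group
      _ = t := by rw [h2, one_mul, inv_eq_of_mul_eq_one_right ht]
  refine ⟨h4, ?_⟩
  have h5 : r * s * (r * s) = 1 := by
    calc r * s * (r * s) = r * (s * r) * s := by group
      _ = 1 := by rw [h1, mul_inv_cancel_left, hs]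
  conv_lhs => rw [← h4]
  calc _ = r * s * (r * s) * s * (r * s * (r * s))⁻¹ := by group
    _ = s := by rw [h5]; group

theorem dih_sw {Q : Type*} [Group Q] {s t : Q} (hs : s * s = 1) (ht : t * t = 1) {k : ℕ}
    (h : (s * (t * s * t)) ^ (2 * k + 1) = 1) :
    (s * t) ^ k * s * ((s * t) ^ k)⁻¹ * t * ((s * t) ^ k * s * ((s * t) ^ k)⁻¹ * t) = 1 ∧
      (s * t) ^ k * s * ((s * t) ^ k)⁻¹ * t * s * ((s * t) ^ k * s * ((s * t) ^ k)⁻¹ * t)⁻¹ = s := by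
  have h1 := (dihedral_conj hs ht k).1
  have h2 := dihedral_inv hs ht (2 * k + 1 : ℕ)
  rw [zpow_neg, zpow_natCast] at h2
  rw [zpow_natCast, show (2 * k : ℤ) = (2 * k : ℕ) by push_cast; ring, zpow_natCast] at h1
  have h3 : (s * t) ^ (2 * k + 1) * (s * t) ^ (2 * k + 1) = 1 := by
    rw [← h, show s * (t * s * t) = (s * t) ^ 2 by rw [sq]; group, ← pow_mul, ← pow_add]
    congr 1
    ring
  rw [h1, mul_assoc ((s * t) ^ (2 * k)) s t, ← pow_succ]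
  refine ⟨h3, ?_⟩
  rw [inv_eq_of_mul_eq_one_right h3] at h2
  rw [← h2, mul_inv_cancel_right]

namespace Sy

theorem mul_conj_mem (h : Sy S) (hP : P ∈ S) (hP' : P' ∈ S) (hu : u ∈ Nm P P') (h1 : u ≠ 1)
    (h2 : u * u = 1) (hx : x ∈ P') : x * (u * x * u) ∈ Nm P' P := by
  have iu := inv_eq_of_mul_eq_one_right h2
  have m : u * x * u ∈ P' := by simpa only [iu] using mem_normalizer_conj hu.2 hx
  refine ⟨mul_mem hx m, h.mem_Ns_of_comm hP hu.1 h1 ?_⟩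
  calc x * (u * x * u) * u = x * u * x * (u * u) := by group
    _ = u * u * x * u * x := by rw [h2]; group
    _ = u * (u * x * u * x) := by group
    _ = _ := by rw [← h.comm hP' hx m]

theorem exists_two_nm (h : Sy S) (hP : P ∈ S) (hP' : P' ∈ S) (hne : P ≠ P') (hu : u ∈ Nm P P')
    (h1 : u ≠ 1) (h2 : u * u = 1) (hel : ∀ x ∈ Nm P' P, x * x = 1) (v : G) :
    ∃ x ∈ Nm P' P, x ≠ 1 ∧ x ≠ v := by
  by_contra hn
  push Not at hn
  have iu := inv_eq_of_mul_eq_one_right h2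
  have ker : ∀ x ∈ P', ⁅x, u⁆ = 1 → x ∈ Nm P' P := fun x hx e =>
    (h.comm_iff hP' hP hne.symm hu h1 hx).1 (commutatorElement_eq_one_iff_mul_comm.1 e)
  have k : ∀ x ∈ P', x * x * (x * x) = 1 → ⁅x, u⁆ ∈ Nm P' P := fun x hx e => by
    have m : u * x * u ∈ P' := by simpa only [iu] using mem_normalizer_conj hu.2 hx
    have e1 := hel _ (h.mul_conj_mem hP hP' hu h1 h2 hx)
    have e2 : ⁅x, u⁆ = x * (u * x * u)⁻¹ := by
      rw [commutatorElement_def, mul_inv_rev, mul_inv_rev, iu]; group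
    have e3 : ⁅x, u⁆ * ⁅x, u⁆ = 1 := by
      rw [e2]
      have c : Commute x (u * x * u) := h.comm hP' hx m
      generalize u * x * u = q at c e1
      calc x * q⁻¹ * (x * q⁻¹) = x * x * (x * x) * (x * q * (x * q))⁻¹ := by
            rw [← pow_two (x * q⁻¹), ← pow_two (x * q), c.inv_right.mul_pow, c.eq, c.symm.mul_pow]
            calc x ^ 2 * q⁻¹ ^ 2 = x * x * (x * x) * (x ^ 2)⁻¹ * q⁻¹ ^ 2 := by group
              _ = _ := by group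
        _ = 1 := by rw [e, e1]; group
    refine ker _ (comm_mem_left hu.2 hx) (commutatorElement_eq_one_iff_mul_comm.2 ?_)
    have e4 : u * ⁅x, u⁆ * u = ⁅x, u⁆⁻¹ := by
      rw [commutatorElement_inv, commutatorElement_def, commutatorElement_def, iu]
      calc u * (x * u * x⁻¹ * u) * u = u * x * u * x⁻¹ * (u * u) := by group
        _ = _ := by rw [h2, mul_one]
    rw [inv_eq_of_mul_eq_one_right e3] at e4
    calc ⁅x, u⁆ * u = u * ⁅x, u⁆ * u * u := by rw [e4]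
      _ = _ := by rw [mul_assoc, h2, mul_one]
  obtain ⟨a, ha, ha1, hav⟩ := h.exists_third hP' v
  obtain ⟨y, hy, hy2, hy4⟩ := h.exists_four hP'
  have ha2 := h.sq hP' ha
  have m1 := k a (Om_le ha) (by rw [ha2, mul_one])
  have m2 := k y hy (h.sq hP' hy4)
  have e1 := hn _ m1 fun e => hav (hn a (ker a (Om_le ha) e) ha1)
  have e2 := hn _ m2 fun e => hy2 (hel y (ker y hy e))
  have e3 := hel _ (ker (y * a) (mul_mem hy (Om_le ha)) (by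
    rw [h.comm_mul_left hP' hu.2 hy (Om_le ha), e2, ← e1, hel _ m1]))
  refine hy2 ?_
  calc y * y = y * (a * a) * y := by rw [ha2, mul_one]
    _ = y * a * (a * y) := by group
    _ = 1 := by rw [← h.comm hP' hy (Om_le ha), e3]

theorem sq_quad (h : Sy S) (hP : P ∈ S) (hP' : P' ∈ S) (hne : P ≠ P')
    (hel : ∀ x ∈ Nm P P', x * x = 1) (ha : a ∈ Nm P P') (hb : b ∈ Nm P P') (h1 : a ≠ 1)
    (h2 : b ≠ 1) (h3 : b ≠ a) (hx : x ∈ P') :
    x * x ∈ Nm P' P ∧ ∀ u ∈ Nm P P', ⁅x, u⁆ ∈ Nm P' P := by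
  have hab : a * b ≠ 1 := fun e => h3 (by
    rw [eq_inv_of_mul_eq_one_right e, inv_eq_of_mul_eq_one_right (hel a ha)])
  have k : x * x ∈ Nm P' P := ⟨mul_mem hx hx, h.mem_Ns_of_comm hP hb.1 h2
    (fgc (fun p hp q hq => h.comm hP' hp hq) ha.2 hb.2 (hel a ha) (hel b hb) (h.comm hP ha.1 hb.1)
      hx (h.Nm_comm hP' hP hne.symm (h.mul_conj_mem hP hP' ha h1 (hel a ha) hx) hb)
      (h.Nm_comm hP' hP hne.symm
        (h.mul_conj_mem hP hP' (mul_mem ha hb) hab (hel _ (mul_mem ha hb)) hx) hb))⟩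
  refine ⟨k, fun u hu => ?_⟩
  by_cases u1 : u = 1
  · simp [u1]
  have : ⁅x, u⁆ = x * x * (x⁻¹ * (u * x⁻¹ * u)) := by
    rw [commutatorElement_def, inv_eq_of_mul_eq_one_right (hel u hu)]; group
  rw [this]
  exact mul_mem k (h.mul_conj_mem hP hP' hu u1 (hel u hu) (inv_mem hx))

theorem qp (h : Sy S) (hP : P ∈ S) (hP' : P' ∈ S) (hne : P ≠ P')
    (hel : ∀ x ∈ Nm P P', x * x = 1) (hel' : ∀ x ∈ Nm P' P, x * x = 1) (hu : u ∈ Nm P P')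
    (h1 : u ≠ 1) : QP S P P' := by
  obtain ⟨a', ha', a1', -⟩ := h.exists_two_nm hP hP' hne hu h1 (hel u hu) hel' 1
  obtain ⟨b', hb', b1', b2'⟩ := h.exists_two_nm hP hP' hne hu h1 (hel u hu) hel' a'
  obtain ⟨b, hb, b1, b2⟩ := h.exists_two_nm hP' hP hne.symm ha' a1' (hel' _ ha') hel u
  obtain ⟨y, hy, y2⟩ := h.nel hP
  obtain ⟨y', hy', y2'⟩ := h.nel hP'
  exact ⟨hP, hP', hne, fun e => h1 (mem_bot.1 (e ▸ hu)), fun e => a1' (mem_bot.1 (e ▸ ha')),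
    ⟨y, hy, fun q => y2 (hel y q)⟩, ⟨y', hy', fun q => y2' (hel' y' q)⟩,
    fun x hx => (h.sq_quad hP' hP hne.symm hel' ha' hb' a1' b1' b2' hx).2,
    fun x hx => (h.sq_quad hP hP' hne hel hu hb h1 b1 b2 hx).2,
    fun x hx => (h.sq_quad hP' hP hne.symm hel' ha' hb' a1' b1' b2' hx).1,
    fun x hx => (h.sq_quad hP hP' hne hel hu hb h1 b1 b2 hx).1⟩

theorem mem_of_mod (h : Sy S) (q : QP S P P') {F' : Subgroup G} (q' : QP S F F')
    (e : NN F F' = NN P P') (hy : y ∈ F) (hy' : y ∉ Nm F F') (hg : g ∈ Ns (NN P P'))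
    (hx : g * y * g⁻¹ ∈ Ns P) : g * y * g⁻¹ ∈ P := by
  by_contra hn
  have hR := h.conj q'.left g
  have hne : P ≠ cj g F := fun e => hn (e ▸ conj_mem_cj.2 hy)
  obtain ⟨u, hu, hu1⟩ := (Nm P P').bot_or_exists_ne_one.resolve_left q.ne_bot
  obtain ⟨v, hv, hv1⟩ := (Nm F F').bot_or_exists_ne_one.resolve_left q'.ne_bot
  have huN : u ∈ NN P P' := mem_sup_left hu
  have h1 : u ∈ Ns (cj g F) := h.mem_Ns_of_comm hR (conj_mem_cj.2 hv.1) (by simpa using hv1)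
    (h.NN_mul_comm q.left q.right q.ne huN (mem_normalizer_conj hg (e ▸ mem_sup_left hv)))
  have h2 := h.Nm_comm q.left hR hne ⟨hu.1, h1⟩ ⟨conj_mem_cj.2 hy, hx⟩
  have h3 := h.cent_NN q'.left q'.right q'.ne hy hy' (e ▸ mem_normalizer_conj' hg huN) (by
    calc y * (g⁻¹ * u * g) = g⁻¹ * (g * y * g⁻¹ * u) * g := by group
      _ = _ := by rw [← h2]; group)
  exact hu1 (h.ti q.left hR hne hu.1 (mem_cj.2 h3.1))

variable [Finite G]

theorem odd (h : Sy S) (q : QP S P P') (hs : s ∈ P) (hs' : s ∉ Nm P P') (ht : t ∈ P')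
    (ht' : t ∉ Nm P' P) : ∃ k : ℕ, (s * t) ^ (2 * k + 1) ∈ NN P P' := by
  have hN := h.le_Ns_NN q
  have c := NN_comm P' P
  refine (odd_or (hN (mem_sup_left hs)) (hN (mem_sup_right ht)) (mem_sup_left (q.sq s hs))
    (mem_sup_right (q.sq' t ht))).resolve_right ?_
  rintro ⟨z, hz, hzN, e1, e2, ⟨d, hd, e3⟩, d', hd', e4⟩
  obtain ⟨u, hu, hu1⟩ := (Nm P P').bot_or_exists_ne_one.resolve_left q.ne_bot
  obtain ⟨v, hv, hv1⟩ := (Nm P' P).bot_or_exists_ne_one.resolve_left q.ne_bot'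
  have key : ∀ {P P' : Subgroup G} {s t u z d : G}, QP S P P' → s ∈ P → s ∉ Nm P P' → t ∈ P' →
      t ∉ Nm P' P → u ∈ Nm P P' → u ≠ 1 → z ∈ Ns (NN P P') → s⁻¹ * (z * s * z⁻¹) ∈ NN P P' →
      d ∈ Ns (NN P P') →
      ((z * s)⁻¹ * (d * s * d⁻¹) ∈ NN P P' ∨ (z * s)⁻¹ * (d * t * d⁻¹) ∈ NN P P') →
      ∃ x ∈ P, x⁻¹ * z ∈ NN P P' := fun {P P' s t u z d} q hs hs' ht ht' hu hu1 hz e1 hd e => by
    have z1 : z ∈ Ns P := cj_eq_self_iff.1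
      (h.cj_eq_of_mod q q.left hz hs hu.1 hu1 (mem_sup_left hu) hs hs' e1)
    have k : ∀ x : G, (z * s)⁻¹ * x ∈ NN P P' → (x ∈ Ns P → x ∈ P) →
        ∃ x ∈ P, x⁻¹ * z ∈ NN P P' := fun x h1 h2 => by
      have h3 := mul_mem (mul_mem z1 (le_normalizer hs)) (ASys.NN_le_Ns h1)
      rw [mul_inv_cancel_left] at h3
      refine ⟨x * s⁻¹, mul_mem (h2 h3) (inv_mem hs), ?_⟩
      have := mem_normalizer_conj (h.le_Ns_NN q (mem_sup_left hs)) (inv_mem h1)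
      convert this using 1
      group
    rcases e with e | e
    · exact k _ e (h.mem_of_mod q q rfl hs hs' hd)
    · exact k _ e (h.mem_of_mod q q.symm (NN_comm P' P) ht ht' hd)
  obtain ⟨x, hx, x1⟩ := key q hs hs' ht ht' hu hu1 hz e1 hd e3
  obtain ⟨x', hx', x1'⟩ := key q.symm ht ht' hs hs' hv hv1 (c ▸ hz) (c ▸ e2) (c ▸ hd') (c ▸ e4)
  rw [c] at x1'
  have vN : v ∈ NN P P' := mem_sup_right hv
  have c1 : Commute (x⁻¹ * z) v := h.NN_mul_comm q.left q.right q.ne x1 vN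
  have c2 : Commute (x'⁻¹ * z) v := h.NN_mul_comm q.left q.right q.ne x1' vN
  have c3 : Commute x' v := h.comm q.right hx' hv.1
  have c4 := (c3.mul_left c2).mul_left c1.inv_left
  rw [show x' * (x'⁻¹ * z) * (x⁻¹ * z)⁻¹ = x by group] at c4
  have := mul_mem (mem_sup_left ((h.comm_iff q.left q.right q.ne hv hv1 hx).1 c4) :
    x ∈ NN P P') x1
  rw [mul_inv_cancel_left] at this
  exact hzN this

theorem swap (h : Sy S) (q : QP S P P') (hs : s ∈ P) (hs' : s ∉ Nm P P') (ht : t ∈ P')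
    (ht' : t ∉ Nm P' P) : ∃ r ∈ zpowers s ⊔ zpowers t, cj r P = P' ∧ cj r P' = P ∧
      t⁻¹ * (r * s * r⁻¹) ∈ Nm P' P ∧ s⁻¹ * (r * t * r⁻¹) ∈ Nm P P' := by
  obtain ⟨k, hk⟩ := h.odd q hs hs' ht ht'
  have hN := h.le_Ns_NN q
  have c := NN_comm P' P
  have s1 := hN (mem_sup_left hs)
  have t1 := hN (mem_sup_right ht)
  obtain ⟨π, k1, k2, h1, h2⟩ := lift_mod s1 t1 (mem_sup_left (q.sq s hs))
    (mem_sup_right (q.sq' t ht))
  obtain ⟨e1, e2⟩ := dih_swap h1 h2 (k := k) (by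
    rw [← map_mul, ← map_pow]; exact (k1 _).2 hk)
  let r : Ns (NN P P') := (⟨s, s1⟩ * ⟨t, t1⟩) ^ k * ⟨s, s1⟩
  have m1 := k2 ⟨t, t1⟩ (r * ⟨s, s1⟩ * r⁻¹) (by simp only [r, map_mul, map_inv, map_pow, e1])
  have m2 := k2 ⟨s, s1⟩ (r * ⟨t, t1⟩ * r⁻¹) (by simp only [r, map_mul, map_inv, map_pow, e2])
  obtain ⟨u, hu, hu1⟩ := (Nm P P').bot_or_exists_ne_one.resolve_left q.ne_bot
  obtain ⟨v, hv, hv1⟩ := (Nm P' P).bot_or_exists_ne_one.resolve_left q.ne_bot'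
  have m1' : t⁻¹ * (r.1 * s * r.1⁻¹) ∈ NN P' P := by rw [c]; exact m1
  have c1 : cj r.1 P = P' := h.cj_eq_of_mod q.symm q.left (by rw [c]; exact r.2) hs hu.1 hu1
    (mem_sup_right hu) ht ht' m1'
  have c2 : cj r.1 P' = P := h.cj_eq_of_mod q q.right r.2 ht hv.1 hv1 (mem_sup_right hv) hs hs' m2
  have ms : s ∈ zpowers s ⊔ zpowers t := mem_sup_left (mem_zpowers s)
  exact ⟨r, mul_mem (pow_mem (mul_mem ms (mem_sup_right (mem_zpowers t))) k) ms, c1, c2,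
    ASys.mem_Nm_of_NN (mul_mem (inv_mem ht) (c1.le (conj_mem_cj.2 hs))) m1',
    ASys.mem_Nm_of_NN (mul_mem (inv_mem hs) (c2.le (conj_mem_cj.2 ht))) m2⟩

theorem el (h : Sy S) (hP : P ∈ S) (hP' : P' ∈ S) (hne : P ≠ P') (hc : ¬ Cm S P P') :
    ∀ x ∈ Nm P P', x * x = 1 := by
  obtain ⟨g, rfl⟩ := h.trans hP hP'
  rcases Cfsg.Agent.S1781.result P (h.pgroup hP) ⟨⟨fun a b => Subtype.ext (h.comm hP a.2 b.2)⟩⟩
    (fun k => or_iff_not_imp_left.2 fun e => eq_bot_iff.2 fun x hx =>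
      h.ti (h.conj hP k) hP e hx.1 hx.2) g hne.symm with e | e
  · exact fun x hx => by rw [← pow_two, e.2 x hx]
  · exact (hc ⟨hP, hP', hne, fun x hx y hy => commutatorElement_eq_one_iff_mul_comm.1
      (mem_bot.1 (e ▸ commutator_mem_commutator hx hy))⟩).elim

theorem mem_nm (h : Sy S) (q : QP S P P') (hel : ∀ x ∈ Nm P P', x * x = 1)
    (hel' : ∀ x ∈ Nm P' P, x * x = 1) (ha : a ∈ P') (h2 : a * a = 1) : a ∈ Ns P := by
  by_contra hn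
  obtain ⟨y, hy, hy2⟩ := h.nel q.left
  obtain ⟨r, -, -, -, e, -⟩ := h.swap q hy (fun e => hy2 (hel y e)) ha fun e => hn e.2
  have e1 := hel' _ e
  have e2 := h.comm q.right ha e.1
  refine hy2 ?_
  calc y * y = r⁻¹ * (a * (a⁻¹ * (r * y * r⁻¹) * a) * (a⁻¹ * (r * y * r⁻¹))) * r := by group
    _ = r⁻¹ * (a * a * (a⁻¹ * (r * y * r⁻¹) * (a⁻¹ * (r * y * r⁻¹)))) * r := by
      rw [← e2]; group
    _ = 1 := by rw [h2, e1]; group

theorem ep_of (h : Sy S) (hP : P ∈ S) (hP' : P' ∈ S) (hne : P ≠ P') (hc : ¬ Cm S P P')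
    (hx : x ∈ P) (h1 : x ≠ 1) (hn : x ∈ Ns P') : Ep S P P' := by
  have e1 := h.el hP hP' hne hc
  have e2 := h.el hP' hP hne.symm fun c => hc c.symm
  have q := h.qp hP hP' hne e1 e2 ⟨hx, hn⟩ h1
  exact ⟨hP, hP', hne, fun x hx => ⟨fun e => e1 x ⟨hx, e⟩, h.mem_nm q.symm e2 e1 hx⟩,
    fun x hx => ⟨fun e => e2 x ⟨hx, e⟩, h.mem_nm q e1 e2 hx⟩⟩

theorem cases_of_mem (h : Sy S) (hP : P ∈ S) (hP' : P' ∈ S) (hx : x ∈ P) (h1 : x ≠ 1)
    (hn : x ∈ Ns P') : P = P' ∨ Cm S P P' ∨ Ep S P P' := by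
  by_cases e : P = P'
  · exact Or.inl e
  by_cases c : Cm S P P'
  · exact Or.inr (Or.inl c)
  exact Or.inr (Or.inr (h.ep_of hP hP' e c hx h1 hn))

theorem tri (h : Sy S) (hP : P ∈ S) (hP' : P' ∈ S) : P = P' ∨ Cm S P P' ∨ Ep S P P' ∨
    ((∀ x ∈ P, x ∈ Ns P' → x = 1) ∧ ∀ x ∈ P', x ∈ Ns P → x = 1) := by
  by_contra hn
  simp only [not_or] at hn
  refine hn.2.2.2 ⟨fun x hx h1 => by_contra fun e => ?_, fun x hx h1 => by_contra fun e => ?_⟩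
  · exact hn.2.2.1 (h.ep_of hP hP' hn.1 hn.2.1 hx e h1)
  · exact hn.2.2.1 (h.ep_of hP' hP (Ne.symm hn.1) (fun c => hn.2.1 c.symm) hx e h1).symm

theorem cases_of_nsq (h : Sy S) (hP : P ∈ S) (hP' : P' ∈ S) (hx : x ∈ P) (h1 : x * x ≠ 1)
    (hn : x ∈ Ns P') : P = P' ∨ Cm S P P' :=
  (h.cases_of_mem hP hP' hx (fun e => h1 (by rw [e, mul_one])) hn).imp_right fun c =>
    c.resolve_right fun e => h1 ((e.nm x hx).1 hn)

theorem comm_of_mem (h : Sy S) (hP : P ∈ S) (hP' : P' ∈ S) (hx : x ∈ P) (h1 : x ≠ 1)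
    (hn : x ∈ Ns P') (ha : a ∈ Om P) (hb : b ∈ Om P') : a * b = b * a := by
  rcases h.cases_of_mem hP hP' hx h1 hn with rfl | c | e
  · exact h.comm hP (Om_le ha) (Om_le hb)
  · exact c.comm a (Om_le ha) b (Om_le hb)
  · exact h.Nm_comm hP hP' e.ne ⟨Om_le ha, (e.nm a (Om_le ha)).2 (h.sq hP ha)⟩
      ⟨Om_le hb, (e.nm' b (Om_le hb)).2 (h.sq hP' hb)⟩

end Sy

end Cfsg.Lib.TIB
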