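import Cfsg.Agent.TIB.Defs
import Cfsg.Agent.Trans.SylowIn

/-! # TIB: general tools -/

set_option autoImplicit false

namespace Cfsg.Lib.TIB

open Subgroup Cfsg.Lib.Trans Cfsg.Lib.Gold Cfsg.Lib.TIM
open scoped commutatorElement

variable {G : Type*} [Group G] [Finite G] {S : Set (Subgroup G)}
  {P P' X Y Z U H I T : Subgroup G} {a b c g x y w u v : G}

theorem chain (hU : IsPGroup 2 U) {W : Set G} (hW : ∀ y ∈ W, y ∈ U)
    (hc : ∀ u ∈ U, ∀ y ∈ W, u * y * u⁻¹ ∈ W) (hy : y ∈ W) (hn : y ∉ H) :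
    ∃ v ∈ W, v ∉ H ∧ ∀ x ∈ W, x ∈ H → v * x * v⁻¹ ∈ H := by
  have : Fact (Nat.Prime 2) := ⟨Nat.prime_two⟩
  suffices key : ∀ K : Subgroup G, K ≤ U → (∀ x ∈ W, x ∈ K ↔ x ∈ H) →
      ∃ v ∈ W, v ∉ H ∧ ∀ x ∈ W, x ∈ H → v * x * v⁻¹ ∈ H from
    key (H ⊓ U) inf_le_right fun x hx => ⟨fun h => h.1, fun h => ⟨h, hW x hx⟩⟩
  intro K
  induction K using (wellFounded_gt (α := Subgroup G)).induction with
  | _ K ih =>
  intro hK hKH
  have hlt : K < U := lt_of_le_of_ne hK fun e => hn ((hKH y hy).1 (e ▸ hW y hy))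
  by_cases h : ∃ v ∈ W, v ∉ H ∧ v ∈ Ns K
  · obtain ⟨v, hv, h1, h2⟩ := h
    exact ⟨v, hv, h1, fun x hx hxH => (hKH _ (hc v (hW v hv) x hx)).1
      (mem_normalizer_conj h2 ((hKH x hx).2 hxH))⟩
  · refine ih _ (lt_inf_normalizer hU hlt) inf_le_left fun x hx => ⟨fun h1 => ?_, fun h1 => ?_⟩
    · by_contra h2
      exact h ⟨x, hx, h2, h1.2⟩
    · exact ⟨hW x hx, le_normalizer ((hKH x hx).2 h1)⟩

omit [Finite G] in
/-- An odd order element `g` with `⁅x, g⁆` a 2-element commuting with `g` centralises `x`. -/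
theorem odd_comm (ho : Odd (orderOf g)) (hI : IsPGroup 2 I) (hg : g ∈ Cs I) (hx : ⁅x, g⁆ ∈ I) :
    x * g = g * x := by
  have h1 : Commute ⁅x, g⁆ g := mem_Cs.1 hg _ hx
  have h2 : x * g * x⁻¹ = ⁅x, g⁆ * g := by rw [commutatorElement_def]; group
  have h3 : ⁅x, g⁆ ^ orderOf g = 1 := by
    have := congrArg (· ^ orderOf g) h2
    simp only [conj_pow, h1.mul_pow, pow_orderOf_eq_one, mul_one, mul_inv_cancel] at this
    exact this.symm
  obtain ⟨k, hk⟩ := hI ⟨_, hx⟩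
  have h4 : ⁅x, g⁆ ^ 2 ^ k = 1 := congrArg Subtype.val hk
  have h5 := pow_gcd_eq_one.2 ⟨h3, h4⟩
  rw [(Nat.Coprime.pow_right k (odd_iff_coprime.1 ho)).gcd_eq_one, pow_one] at h5
  exact commutatorElement_eq_one_iff_mul_comm.1 h5

/-- A subgroup without nontrivial elements of odd order is a 2-group. -/
theorem pgroup_of_odd (ho : ∀ g ∈ H, Odd (orderOf g) → g = 1) : IsPGroup 2 H := fun g => by
  obtain ⟨k, m, hm, e⟩ := Nat.exists_eq_two_pow_mul_odd (orderOf_pos (g : G)).ne'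
  refine ⟨k, Subtype.ext (ho _ (pow_mem g.2 _) (hm.of_dvd_nat (orderOf_dvd_of_pow_eq_one ?_)))⟩
  rw [SubgroupClass.coe_pow, ← pow_mul, ← e, pow_orderOf_eq_one]

omit [Finite G] in
/-- Four-group calculus. -/
theorem fgc (hc : ∀ p ∈ U, ∀ q ∈ U, p * q = q * p) (ha : a ∈ Ns U) (hb : b ∈ Ns U)
    (ha2 : a * a = 1) (hb2 : b * b = 1) (hab : a * b = b * a) (hy : y ∈ U)
    (h1 : y * (a * y * a) * b = b * (y * (a * y * a)))
    (h3 : y * (a * b * y * (a * b)) * b = b * (y * (a * b * y * (a * b)))) :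
    y * y * b = b * (y * y) := by
  have ia := inv_eq_of_mul_eq_one_right ha2
  have ib := inv_eq_of_mul_eq_one_right hb2
  have m1 : a * y * a⁻¹ ∈ U := mem_normalizer_conj ha hy
  have m2 : b * y * b⁻¹ ∈ U := mem_normalizer_conj hb hy
  have m3 : b * (a * y * a⁻¹) * b⁻¹ ∈ U := mem_normalizer_conj hb m1
  have e1 : y * (a * y * a⁻¹) = b * y * b⁻¹ * (b * (a * y * a⁻¹) * b⁻¹) := by
    rw [ia]
    calc _ = y * (a * y * a) * b * b⁻¹ := by group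
      _ = _ := by rw [h1]; group
  have e2 : y * (b * (a * y * a⁻¹) * b⁻¹) = b * y * b⁻¹ * (a * y * a⁻¹) := by
    have q : a * b * y * (a * b) = b * (a * y * a⁻¹) * b⁻¹ := by
      rw [ia, ib]
      calc a * b * y * (a * b) = b * a * y * (a * b) := by rw [hab]
        _ = _ := by group
    rw [q] at h3
    calc _ = y * (b * (a * y * a⁻¹) * b⁻¹) * b * b⁻¹ := by group
      _ = b * y * b⁻¹ * (b * b * (a * y * a⁻¹) * (b * b)⁻¹) := by rw [h3]; group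
      _ = _ := by rw [hb2]; group
  have e3 : y * y = b * y * b⁻¹ * (b * y * b⁻¹) := by
    generalize a * y * a⁻¹ = p at m1 m3 e1 e2
    generalize b * p * b⁻¹ = r at m3 e1 e2
    generalize b * y * b⁻¹ = q at m2 e1 e2
    apply mul_right_cancel (b := p * r)
    calc y * y * (p * r) = y * (y * p) * r := by group
      _ = y * (p * y) * r := by rw [hc y hy p m1]
      _ = y * p * (y * r) := by group
      _ = q * (r * q) * p := by rw [e1, e2]; group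
      _ = q * q * (r * p) := by rw [hc r m3 q m2]; group
      _ = _ := by rw [hc r m3 p m1]
  calc y * y * b = b * y * b⁻¹ * (b * y * b⁻¹) * b := by rw [← e3]
    _ = _ := by group

omit [Finite G] in
theorem comm_ncl (hc : ∀ g ∈ H, ∀ x ∈ X, ∀ y ∈ X, x * (g * y * g⁻¹) = g * y * g⁻¹ * x) :
    ∀ p ∈ ncl X H, ∀ q ∈ ncl X H, p * q = q * p := by
  have : ncl X H ≤ Cs (ncl X H) := by
    refine ncl_le_iff.2 fun g hg => le_Cs_comm.1 (ncl_le_iff.2 fun k hk => ?_)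
    refine cj_le_iff.2 fun y hy => mem_Cs.2 fun p hp => ?_
    have := hc (g⁻¹ * k) (mul_mem (inv_mem hg) hk) _ (mem_cj.1 hp) y hy
    calc p * (k * y * k⁻¹) = g * (g⁻¹ * p * g * (g⁻¹ * k * y * (g⁻¹ * k)⁻¹)) * g⁻¹ := by group
      _ = _ := by rw [this]; group
  exact fun p hp q hq => mem_Cs.1 (this hq) p hp

omit [Finite G] in
theorem Sy.exists_third (h : Sy S) (hP : P ∈ S) (a : G) : ∃ b ∈ Om P, b ≠ 1 ∧ b ≠ a := by
  obtain ⟨x, hx, y, hy, h1, h2, h3, h4, h5⟩ := h.four hP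
  by_cases e : x = a
  · exact ⟨y, mem_Om_of hy h5, h2, fun q => h3 (e.trans q.symm)⟩
  · exact ⟨x, mem_Om_of hx h4, h1, e⟩

omit [Finite G] in
theorem Sy.exists_ne (h : Sy S) (hP : P ∈ S) : ∃ a ∈ Om P, a ≠ 1 :=
  let ⟨b, h1, h2, _⟩ := h.exists_third hP 1
  ⟨b, h1, h2⟩

omit [Finite G] in
/-- An element of order 4. -/
theorem Sy.exists_four (h : Sy S) (hP : P ∈ S) : ∃ y ∈ P, y * y ≠ 1 ∧ y * y ∈ Om P := by
  obtain ⟨y, hy, h2⟩ := h.nel hP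
  obtain ⟨k, hk⟩ := h.pgroup hP ⟨y, hy⟩
  have hk' : y ^ 2 ^ k = 1 := congrArg Subtype.val hk
  clear hk
  induction k generalizing y with
  | zero => exact (h2 (by rw [show y = 1 by simpa using hk', one_mul])).elim
  | succ k ih =>
    by_cases h4 : y * y * (y * y) = 1
    · exact ⟨y, hy, h2, mem_Om_of (mul_mem hy hy) h4⟩
    · exact ih (y * y) (mul_mem hy hy) h4 (by rw [← pow_two, ← pow_mul, ← pow_succ', hk'])

omit [Finite G] in
theorem Sy.eq_of_mem (h : Sy S) (hP : P ∈ S) (hP' : P' ∈ S) (hx : x ∈ P) (hx' : x ∈ P')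
    (h1 : x ≠ 1) : P = P' := by
  by_contra e
  exact h1 (h.ti hP hP' e hx hx')

omit [Finite G] in
theorem Sy.le_Q (h : Sy S) (hP : P ∈ S) : P ≤ Qp P :=
  Local.le_pCoreOf le_normalizer le_rfl (h.pgroup hP)

theorem Sy.eq_of_Ns_le (h : Sy S) (hP : P ∈ S) (hP' : P' ∈ S) (h1 : X ≠ ⊥) (h2 : IsPGroup 2 X)
    (h3 : Ns P ≤ Ns X) (h4 : Ns P' ≤ Ns X) : P = P' := by
  have e : Ns P = Ns P' := by
    rw [h3.antisymm (h.mx hP h1 h2 h3), h4.antisymm (h.mx hP' h1 h2 h4)]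
  obtain ⟨g, rfl⟩ := h.trans hP hP'
  obtain ⟨a, ha, ha1⟩ := h.exists_ne hP
  have hg : g ∈ Ns (Qp P) := by rw [mem_Ns_iff, cj_Qp, Qp, ← e]
  exact (mem_Ns_iff.1 (h.mx hP (fun q => ha1 (mem_bot.1 (q ▸ h.le_Q hP (Om_le ha))))
    (Local.isPGroup_pCoreOf _) (Local.le_normalizer_pCoreOf _) hg)).symm

/-- The block argument. -/
theorem Sy.block (h : Sy S) (F : Subgroup G → Subgroup G)
    (hF : ∀ (g : G) (P : Subgroup G), P ∈ S → F (cj g P) = cj g (F P)) (hP : P ∈ S) (hP' : P' ∈ S)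
    (hle : F P ≤ F P') (ha : a ∈ F P) (hc : a ∈ Cs (F P)) (h1 : a ≠ 1) (h2 : a * a = 1) :
    P = P' := by
  have e : F P = F P' := by
    obtain ⟨g, rfl⟩ := h.trans hP hP'
    exact eq_of_le_of_card_ge hle (by rw [hF g P hP, card_cj])
  have hn : ∀ {R : Subgroup G}, R ∈ S → Ns R ≤ Ns (Om (F R ⊓ Cs (F R))) := fun {R} hR g hg => by
    have : g ∈ Ns (F R) := by rw [mem_Ns_iff, ← hF g R hR, mem_Ns_iff.1 hg]
    exact Ns_le_Ns_Om (mem_Ns_inf this (mem_Ns_Cs this))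
  refine h.eq_of_Ns_le hP hP' (X := Om (F P ⊓ Cs (F P)))
    (fun q => h1 (mem_bot.1 (q ▸ mem_Om_of ⟨ha, hc⟩ h2))) (isPGroup_of_sq fun x hx => ?_) (hn hP)
    (e ▸ hn hP')
  exact ((mem_Om_iff (P := F P ⊓ Cs (F P)) fun p hp q hq => mem_Cs.1 hq.2 p hp.1).1 hx).2

/-- Stabilisers of the chain `C_Q(P) ≥ I ≥ 1` lie in `Q`. -/
theorem Sy.mem_Q_of_stab (h : Sy S) (hP : P ∈ S) (hI : IsPGroup 2 I) (hn : Ns P ≤ Ns I)
    (hg : g ∈ Ns P) (h1 : g ∈ Cs I) (h2 : ∀ x ∈ Qp P, x ∈ Cs P → ⁅x, g⁆ ∈ I) : g ∈ Qp P := by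
  have hQ : Ns P ≤ Ns (Qp P) := Local.le_normalizer_pCoreOf _
  have hC : Ns P ≤ Ns (Cs P) := le_Ns_Cs le_rfl
  let J : Subgroup G :=
    { carrier := {g | g ∈ Ns P ∧ g ∈ Cs I ∧ ∀ x ∈ Qp P, x ∈ Cs P → ⁅x, g⁆ ∈ I}
      one_mem' := ⟨one_mem _, one_mem _, fun x _ _ => by simp⟩
      mul_mem' := fun {g k} hg hk => ⟨mul_mem hg.1 hk.1, mul_mem hg.2.1 hk.2.1, fun x hx hx' => by
        have : ⁅x, g * k⁆ = ⁅x, g⁆ * (g * ⁅x, k⁆ * g⁻¹) := by
          simp only [commutatorElement_def]; group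
        rw [this]
        exact mul_mem (hg.2.2 x hx hx') (mem_normalizer_conj (hn hg.1) (hk.2.2 x hx hx'))⟩
      inv_mem' := fun {g} hg => ⟨inv_mem hg.1, inv_mem hg.2.1, fun x hx hx' => by
        have : ⁅x, g⁻¹⁆ = g⁻¹ * ⁅x, g⁆⁻¹ * g := by simp only [commutatorElement_def]; group
        rw [this]
        exact mem_normalizer_conj' (hn hg.1) (inv_mem (hg.2.2 x hx hx'))⟩ }
  have hJ : Ns P ≤ Ns J := fun m hm => by
    refine mem_normalizer_of_cj_le (cj_le_iff.2 fun g hg => ⟨mul_mem (mul_mem hm hg.1) (inv_mem hm),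
      mem_normalizer_conj (mem_Ns_Cs (hn hm)) hg.2.1, fun x hx hx' => ?_⟩)
    have : ⁅x, m * g * m⁻¹⁆ = m * ⁅m⁻¹ * x * m, g⁆ * m⁻¹ := by
      simp only [commutatorElement_def]; group
    rw [this]
    exact mem_normalizer_conj (hn hm)
      (hg.2.2 _ (mem_normalizer_conj' (hQ hm) hx) (mem_normalizer_conj' (hC hm) hx'))
  refine Local.le_pCoreOf (N := J) (fun g hg => hg.1) hJ (pgroup_of_odd fun k hk ho => ?_)
    ⟨hg, h1, h2⟩
  have k1 : k ∈ Cs (Qp P ⊓ Cs P) := mem_Cs.2 fun x hx =>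
    odd_comm ho hI hk.2.1 (hk.2.2 x hx.1 hx.2)
  have k2 : k ∈ Cs P := Cs_anti (le_inf (h.le_Q hP) fun x hx => mem_Cs.2 fun y hy =>
    h.comm hP hy hx) k1
  have k3 : k ∈ Cs (Qp P) := mem_Cs.2 fun x hx =>
    odd_comm ho ((Local.isPGroup_pCoreOf _).to_le inf_le_left) k1
      ⟨comm_mem_left (hQ hk.1) hx, comm_mem_right (hC (Local.pCoreOf_le _ hx)) k2⟩
  obtain ⟨n, hn⟩ := Local.isPGroup_pCoreOf (p := 2) _ ⟨k, h.ch hP hk.1 k3⟩
  have h4 : k ^ 2 ^ n = 1 := congrArg Subtype.val hn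
  have h5 := pow_gcd_eq_one.2 ⟨pow_orderOf_eq_one k, h4⟩
  rwa [(Nat.Coprime.pow_right n (odd_iff_coprime.1 ho)).gcd_eq_one, pow_one] at h5

end Cfsg.Lib.TIB
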