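import Cfsg.Agent.TIB.GT

/-! Existence of good triples; `Ω₁ Y ≤ Z Ω₁ X`. -/

set_option autoImplicit false

namespace Cfsg.Lib.TIB

open Subgroup Cfsg.Lib.Trans Cfsg.Lib.Gold Cfsg.Lib.TIM
open scoped commutatorElement

variable {G : Type*} [Group G] [Finite G] {S : Set (Subgroup G)}
  {P P' X Y Z U H I T X' Y' R : Subgroup G} {a b c g x y w η u v : G}

namespace Wl

theorem eq_of_cent (h : Sy S) (hn : NoC S) (hR : R ∈ S) (hP : P ∈ S) (hc : c ∈ R) (c1 : c ≠ 1)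
    (hC : c ∈ Cs P) : R = P := by
  rcases h.cases_of_mem hR hP hc c1 (Cs_le_Ns hC) with e | e | e
  · exact e
  · exact absurd e (hn _ _)
  · exact absurd (e.eq_one h hc hC) c1

theorem cs_left (h : Sy S) (hP : P ∈ S) (hy : y ∈ P) : y ∈ Cs P :=
  mem_Cs.2 fun _ hu => h.comm hP hu hy

theorem cs_om (h : Sy S) (e : Ep S P X) (ha : a ∈ Om X) : a ∈ Cs (Om P) :=
  mem_Cs.2 fun _ hu => e.comm h hu ha

theorem c4 (h : Sy S) (e : Ep S P X) (e' : Ep S P Y) (ha : a ∈ Om X) (hv : v ∈ Om Y) :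
    a * v * a * v ∈ Cs P := mem_Cs.2 fun y hy => by
  have hα := e.quad h hy ha
  have hβ := e'.quad h hy hv
  have e1 : a * y * a⁻¹ = ⁅y, a⁆⁻¹ * y := by rw [commutatorElement_def]; group
  have e2 : v * y * v⁻¹ = ⁅y, v⁆⁻¹ * y := by rw [commutatorElement_def]; group
  have c1 := e.comm h (inv_mem hβ) ha
  have c2 := e'.comm h (inv_mem hα) hv
  have c3 := h.comm e.left (Om_le (inv_mem hα)) (Om_le (inv_mem hβ))
  have e3 : a * v * y * (a * v)⁻¹ = v * a * y * (v * a)⁻¹ :=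
    calc a * v * y * (a * v)⁻¹ = a * (v * y * v⁻¹) * a⁻¹ := by group
      _ = ⁅y, v⁆⁻¹ * (a * y * a⁻¹) := by rw [e2, ← mul_assoc, ← c1]; group
      _ = ⁅y, a⁆⁻¹ * (v * y * v⁻¹) := by rw [e1, e2, ← mul_assoc, ← c3, mul_assoc]
      _ = v * (a * y * a⁻¹) * v⁻¹ := by rw [e1, ← mul_assoc v, ← c2]; group
      _ = v * a * y * (v * a)⁻¹ := by group
  have a2 := inv_eq_of_sq (h.sq e.right ha)
  have v2 := inv_eq_of_sq (h.sq e'.right hv)
  calc y * (a * v * a * v) = (v * a)⁻¹ * (v * a * y * (v * a)⁻¹) * (a * v) := by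
        rw [mul_inv_rev, a2, v2]
        conv_rhs => enter [1, 1]; rw [← a2, ← v2]
        group
    _ = a * v * a * v * y := by
        rw [← e3, mul_inv_rev v a, a2, v2]; group

theorem K0 (h : Sy S) (hn : NoC S) (e : Ep S P X) (e' : Ep S P Y) (hu : u ∈ Om X)
    (hv : v ∈ Om Y) (h1 : u * v ≠ v * u) (h2 : u * (v * u * v) = v * u * v * u) :
    ∃ η ∈ P, η * η ≠ 1 ∧ η * v ∈ Cs (Om X) ∧ v * η * v = η⁻¹ := by
  have v2 := h.sq e'.right hv
  have u1 : u ≠ 1 := fun q => h1 (by rw [q, mul_one, one_mul])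
  have v1 : v ≠ 1 := fun q => h1 (by rw [q, mul_one, one_mul])
  have hX := h.conj e.right v
  rcases h.cases_of_mem hX e.right (conj_mem_cj.2 (Om_le hu)) (by simpa using u1)
    (h.mem_Ns_of_comm e.right (Om_le hu) u1 (by rw [inv_eq_of_sq v2, h2])) with q | q | q
  · exact absurd (h.comm_of_mem e'.right e.right (Om_le hv) v1 (mem_Ns_iff.2 q) hv hu).symm h1
  · exact absurd q (hn _ _)
  obtain ⟨g, -, η, hη, η2, hw, a, ha, av, hc⟩ := q.symm.sw h v2 rfl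
  have a2 := h.sq e.right ha
  rw [eq_of_cent h hn (h.conj e.right g) e.left hc (fun q => av (by
    rw [mul_assoc, ← eq_inv_iff_mul_eq_one, mul_inv_rev, inv_eq_of_sq a2, inv_eq_of_sq v2] at q
    exact q)) (c4 h e e' ha hv)] at hη
  obtain ⟨o1, -, o2⟩ := e.one h hw
    (mul_mem (Cs_anti Om_le (cs_left h e.left hη)) (cs_om h e' hv)) hη η2 (by
      rw [show ⁅η, η * v⁆ = η * ⁅η, v⁆ * η⁻¹ by simp only [commutatorElement_def]; group]
      exact mem_normalizer_conj (Ns_le_Ns_Om (le_normalizer hη)) (e'.quad h hη hv))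
  have hm : η * v * (η * v) ∈ P := by
    rw [show η * v * (η * v) = η * (v * η * v⁻¹) by rw [inv_eq_of_sq v2]; group]
    exact mul_mem hη (mem_normalizer_conj (e'.symm.le_Ns h hv) hη)
  refine ⟨η, hη, η2, o1, eq_inv_of_mul_eq_one_right ?_⟩
  rw [← e.eq_one h hm o2]; group

theorem K2 (h : Sy S) (e : Ep S P X) (e' : Ep S P Y) (hv : v ∈ Om Y)
    (hw : η * v ∈ Cs (Om X)) (hη : η ∈ P) (ha : a ∈ Om X) : a * v * a * v = ⁅η⁻¹, a⁆ := by
  have v2 := inv_eq_of_sq (h.sq e'.right hv)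
  have a2 := h.sq e.right ha
  have c1 := mem_Cs.1 hw a ha
  have c2 := e.comm h (e.quad h (inv_mem hη) ha) ha
  calc a * v * a * v = a * (η⁻¹ * (η * v * a) * v⁻¹) := by rw [v2]; group
    _ = a * ⁅η⁻¹, a⁆ * a := by rw [← c1, commutatorElement_def]; group
    _ = ⁅η⁻¹, a⁆ := by rw [← c2, mul_assoc, a2, mul_one]

theorem K1 (h : Sy S) (e : Ep S P X) (e' : Ep S P Y) (hv : v ∈ Om Y) (hw : η * v ∈ Cs (Om X))
    (hη : η ∈ P) (η2 : η * η ≠ 1) (ha : a ∈ Om X) (a1 : a ≠ 1) :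
    v * a ≠ a * v ∧ v * (a * v * a) = a * v * a * v := by
  have v2 := h.sq e'.right hv
  have a2 := h.sq e.right ha
  have k := K2 h e e' hv hw hη ha
  refine ⟨fun q => a1 (e.inj h (inv_mem hη) (by rw [← mul_inv_rev]; exact inv_ne_one.2 η2) ha ?_), ?_⟩
  · rw [mul_assoc a, q, ← mul_assoc, a2, one_mul, v2] at k
    exact commutatorElement_eq_one_iff_mul_comm.1 k.symm
  · rw [← inv_eq_of_sq (k ▸ h.sq e.left (e.quad h (inv_mem hη) ha) :
      a * v * a * v * (a * v * a * v) = 1)]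
    simp only [mul_inv_rev, inv_eq_of_sq v2, inv_eq_of_sq a2, mul_assoc]

end Wl

open Wl

theorem Sy.gt_of_d8 (h : Sy S) (hn : NoC S) (e : Ep S P X) (e' : Ep S P Y) (hu : u ∈ Om X)
    (hv : v ∈ Om Y) (h1 : u * v ≠ v * u) (h2 : u * (v * u * v) = v * u * v * u) :
    GT S P X Y := by
  obtain ⟨η, hη, η2, hw, -⟩ := K0 h hn e e' hu hv h1 h2
  have hl : ∀ a ∈ Om X, a ≠ 1 → ∃ η ∈ P, η * η ≠ 1 ∧ η * a ∈ Cs (Om Y) ∧ a * η * a = η⁻¹ :=
    fun a ha a1 =>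
      K0 h hn e' e hv ha (K1 h e e' hv hw hη η2 ha a1).1 (K1 h e e' hv hw hη η2 ha a1).2
  obtain ⟨ζ, hζ, ζ2, hw', -⟩ := hl u hu fun q => h1 (by rw [q, mul_one, one_mul])
  exact ⟨e, e', hl, fun b hb b1 =>
    K0 h hn e e' hu hb (K1 h e' e hu hw' hζ ζ2 hb b1).1 (K1 h e' e hu hw' hζ ζ2 hb b1).2⟩

namespace Wl

/-- The involutions of the points in `Ep` relation with `P`. -/
def UU (S : Set (Subgroup G)) (P : Subgroup G) : Set G := {u | ∃ X, Ep S P X ∧ u ∈ Om X}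

omit [Finite G] in
theorem UU_cj (h : Sy S) (hu : u ∈ UU S P) (g : G) : g * u * g⁻¹ ∈ UU S (cj g P) := by
  obtain ⟨X, e, hu⟩ := hu
  exact ⟨_, e.conj h g, cj_Om g X ▸ conj_mem_cj.2 hu⟩

theorem W0 (h : Sy S) (hn : NoC S) (hg : ∀ X Y, ¬ GT S P X Y) (hU : IsPGroup 2 U)
    (hle : U ≤ Ns P) (hu : u ∈ UU S P) (hv : v ∈ UU S P) (hu' : u ∈ U) (hv' : v ∈ U) :
    v * u = u * v := by
  by_contra hc
  obtain ⟨v, ⟨⟨Y, e', hv⟩, -⟩, hc, hw⟩ := chain hU (W := {x | x ∈ UU S P ∧ x ∈ U}) (H := C1 u)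
    (fun _ hy => hy.2) (fun m hm y hy => ⟨mem_Ns_iff.1 (hle hm) ▸ UU_cj h hy.1 m,
      mul_mem (mul_mem hm hy.2) (inv_mem hm)⟩) ⟨hv, hv'⟩ (fun q => hc (mem_C1.1 q))
  have := mem_C1.1 (hw u ⟨hu, hu'⟩ (mem_C1.2 rfl))
  obtain ⟨X, e, hu⟩ := hu
  rw [inv_eq_of_sq (h.sq e'.right hv)] at this
  exact hg _ _ (h.gt_of_d8 hn e e' hu hv (fun q => hc (mem_C1.2 q.symm)) this.symm)

theorem W0' (h : Sy S) (hn : NoC S) (hg : ∀ X Y, ¬ GT S P X Y) (e : Ep S P X) (hu : u ∈ Om X)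
    (hx : x ∈ Qp P) : x * u * x⁻¹ * u = u * (x * u * x⁻¹) := by
  have hxN : x ∈ Ns P := Local.pCoreOf_le _ hx
  have hu' : u ∈ Om X ⊔ Qp P := mem_sup_left hu
  have hx' : x ∈ Om X ⊔ Qp P := mem_sup_right hx
  exact W0 h hn hg (U := Om X ⊔ Qp P)
    (Local.isPGroup_sup ((h.pgroup e.right).to_le Om_le) (Local.isPGroup_pCoreOf _)
      ((e.symm.le_Ns h).trans (Local.le_normalizer_pCoreOf _)))
    (sup_le (e.symm.le_Ns h) (Local.pCoreOf_le _)) ⟨X, e, hu⟩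
    (mem_Ns_iff.1 hxN ▸ UU_cj h ⟨X, e, hu⟩ x) hu' (mul_mem (mul_mem hx' hu') (inv_mem hx'))

theorem W1 (h : Sy S) (hn : NoC S) (hg : ∀ X Y, ¬ GT S P X Y) (e : Ep S P X) (hx : x ∈ Qp P)
    (hC : x ∈ Cs P) (x2 : x * x = 1) : x ∈ Cs (Om X) := by
  obtain ⟨u, hu, u1⟩ := h.exists_ne e.right
  rcases h.cases_of_mem (h.conj e.right x) e.right (conj_mem_cj.2 (Om_le hu)) (by simpa using u1)
    (h.mem_Ns_of_comm e.right (Om_le hu) u1 (W0' h hn hg e hu hx)) with q | q | q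
  · exact e.one' h (mem_Ns_iff.2 q) hC
  · exact absurd q (hn _ _)
  obtain ⟨g, -, η, hη, η2, hw, a, ha, av, hc⟩ := q.symm.sw h x2 rfl
  have a2 := h.sq e.right ha
  rw [eq_of_cent h hn (h.conj e.right g) e.left hc (fun q => av (by
    rw [mul_assoc, ← eq_inv_iff_mul_eq_one, mul_inv_rev, inv_eq_of_sq a2, inv_eq_of_sq x2] at q
    exact q)) (mul_mem (by
      have := mem_normalizer_conj (mem_Ns_Cs (e.symm.le_Ns h ha)) hC
      rwa [inv_eq_of_sq a2] at this) hC)] at hη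
  obtain ⟨α, hα, hm⟩ := e.nc h (mul_mem (cs_left h e.left hη) hC) hw
  have c1 := mem_Cs.1 hC _ hη
  have c2 := mem_Cs.1 hC _ (Om_le hα)
  have c3 := h.comm e.left hη (Om_le hα)
  have e1 : η * x * α * (η * x * α) = η * η :=
    calc η * x * α * (η * x * α) = η * x * (α * η) * x * α := by group
      _ = η * (x * η) * (α * x) * α := by rw [← c3]; group
      _ = η * η * (x * x) * (α * α) := by rw [← c1, c2]; group
      _ = η * η := by rw [x2, h.sq e.left hα, mul_one, mul_one]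
  exact absurd (e.eq_one h (mul_mem hη hη) (e1 ▸ Cs_anti le_sup_right (mul_mem hm hm))) η2

theorem W2 (h : Sy S) (hn : NoC S) (hg : ∀ X Y, ¬ GT S P X Y) (hu : u ∈ UU S P) : u ∈ Qp P := by
  obtain ⟨X, e, hu⟩ := hu
  have hN : Ns P ≤ Ns (Qp P ⊓ Cs P) :=
    le_Ns_inf (Local.le_normalizer_pCoreOf _) (le_Ns_Cs le_rfl)
  have huN := e.symm.le_Ns h hu
  have u2 := h.sq e.right hu
  refine h.mem_Q_of_stab e.left (I := Om (Qp P ⊓ Cs P))
    ((Local.isPGroup_pCoreOf _).to_le (Om_le.trans inf_le_left)) (hN.trans Ns_le_Ns_Om) huN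
    (mem_Cs.2 fun x hx => mem_C1.1 ((closure_le (C1 u)).2 (fun x hx => mem_C1.2
      (mem_Cs.1 (W1 h hn hg e hx.1.1 hx.1.2 (by rw [← pow_two, hx.2])) u hu).symm) hx))
    fun x hx hC => mem_Om_of ?_ ?_
  · rw [show ⁅x, u⁆ = x * (u * x⁻¹ * u⁻¹) by rw [commutatorElement_def]; group]
    exact mul_mem ⟨hx, hC⟩ (mem_normalizer_conj (hN huN) (inv_mem ⟨hx, hC⟩))
  · have := W0' h hn hg e hu hx
    rw [commutatorElement_def, inv_eq_of_sq u2]
    calc x * u * x⁻¹ * u * (x * u * x⁻¹ * u) = x * u * x⁻¹ * (u * (x * u * x⁻¹)) * u := by group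
      _ = x * (u * u) * x⁻¹ * (u * u) := by rw [← this]; group
      _ = 1 := by rw [u2]; group

/-- The group generated by the involutions of `R` and of its `Ep` neighbours. -/
def FF (S : Set (Subgroup G)) (R : Subgroup G) : Subgroup G := closure (Om R ∪ UU S R)

omit [Finite G] in
theorem cj_FF (h : Sy S) (g : G) (R : Subgroup G) : FF S (cj g R) = cj g (FF S R) := by
  have key : ∀ (g : G) (R : Subgroup G), cj g (FF S R) ≤ FF S (cj g R) := fun g R => by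
    rw [FF, cj_closure, closure_le]
    rintro _ ⟨x, hx | hx, rfl⟩
    · exact subset_closure (Or.inl (cj_Om g R ▸ conj_mem_cj.2 hx : _ ∈ Om (cj g R)))
    · exact subset_closure (Or.inr (UU_cj h hx g))
  refine le_antisymm ?_ (key g R)
  have := key g⁻¹ (cj g R)
  rwa [cj_inv_cj, cj_inv_le_iff_le_cj] at this

end Wl

theorem Sy.exists_gt (h : Sy S) (hn : NoC S) (e : Ep S P P') : ∃ X Y, GT S P X Y := by
  by_contra hg
  push Not at hg
  obtain ⟨a, ha, a1⟩ := h.exists_ne e.left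
  obtain ⟨b, hb, b1⟩ := h.exists_ne e.right
  refine e.ne (h.block (FF S) (fun g R _ => cj_FF h g R) e.left e.right ?_
    (subset_closure (Or.inl ha)) ?_ a1 (h.sq e.left ha))
  · rw [FF, closure_le]
    rintro u (hu | hu)
    · exact subset_closure (Or.inr ⟨P, e.symm, hu⟩)
    by_cases u1 : u = 1
    · rw [u1]; exact one_mem _
    have hc := W0 h hn hg (Local.isPGroup_pCoreOf _) (Local.pCoreOf_le _) ⟨P', e, hb⟩ hu
      (W2 h hn hg ⟨P', e, hb⟩) (W2 h hn hg hu)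
    obtain ⟨X, e', hu⟩ := hu
    rcases h.cases_of_mem e'.right e.right (Om_le hu) u1
      (h.mem_Ns_of_comm e.right (Om_le hb) b1 hc) with q | q | q
    · exact subset_closure (Or.inl (q ▸ hu))
    · exact absurd q (hn _ _)
    · exact subset_closure (Or.inr ⟨X, q.symm, hu⟩)
  · refine mem_Cs.2 fun x hx => mem_C1.1 ((closure_le (C1 a)).2 ?_ hx)
    rintro u (hu | ⟨X, e', hu⟩)
    · exact mem_C1.2 (h.comm e.left (Om_le hu) (Om_le ha))
    · exact mem_C1.2 (e'.comm h ha hu).symm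

namespace Wl

theorem four_mem (h : Sy S) (t : GT S Z X Y) (ha : a ∈ Om X) (hb : b ∈ Om Y) :
    a * b * a * b ∈ Om Z := by
  by_cases b1 : b = 1
  · rw [b1, mul_one, mul_one, h.sq t.l.right ha]; exact one_mem _
  obtain ⟨η, hη, -, hw, -⟩ := t.hr b hb b1
  rw [K2 h t.l t.r hb hw hη ha]
  exact t.l.quad h (inv_mem hη) ha

theorem mem_Ns_Tb (h : Sy S) (t : GT S Z X Y) (hb : b ∈ Om Y) : b ∈ Ns (Tb Z X) := by
  refine mem_normalizer_of_cj_le ?_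
  rw [cj_sup, sup_le_iff, mem_Ns_iff.1 (t.r.symm.le_Ns h hb)]
  refine ⟨le_sup_left, cj_le_iff.2 fun a ha => ?_⟩
  have := mul_mem (mem_sup_right ha : a ∈ Tb Z X) (mem_sup_left (Om_le (four_mem h t ha hb)))
  rwa [inv_eq_of_sq (h.sq t.r.right hb), show b * a * b = a * (a * b * a * b) by
    rw [← mul_assoc, ← mul_assoc, ← mul_assoc, h.sq t.l.right ha, one_mul]]

theorem mul_mem_Tb (h : Sy S) (hn : NoC S) (t : GT S Z X Y) {ζ d : G} (hη : η ∈ Z)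
    (η2 : η * η ≠ 1) (hζ : ζ ∈ Z) (ζ2 : ζ * ζ ≠ 1) (hb : b ∈ Om Y) (hd : d ∈ Om Y)
    (ib : b * η * b = η⁻¹) (id : d * ζ * d = ζ⁻¹) : b * d ∈ Tb Z X := by
  have hZ := t.l.left
  obtain ⟨a, ha, -, ia⟩ := t.l.exists_inv h hη η2
  obtain ⟨c, hc, -, ic⟩ := t.l.exists_inv h hζ ζ2
  obtain ⟨α, hα, hρ⟩ := t.rho h hη η2 ha hb ia ib
  obtain ⟨γ, hγ, hρ'⟩ := t.rho h hζ ζ2 hc hd ic id
  obtain ⟨k, hk, kZ, kX, hβ, -⟩ := t.l.ht h hη η2 hζ ζ2
  set β := ζ⁻¹ * (k * η * k⁻¹) with hβd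
  have eη : k * η * k⁻¹ = ζ * β := by rw [hβd]; group
  have hak : k * a * k⁻¹ ∈ Om X := mem_normalizer_conj (Ns_le_Ns_Om kX) ha
  have hαk : k * α * k⁻¹ ∈ Om Z := mem_normalizer_conj (Ns_le_Ns_Om kZ) hα
  have ea : k * a * k⁻¹ = c := t.l.inv_uniq h hζ ζ2 hak hc (by
    have e1 : k * a * k⁻¹ * (ζ * β) * (k * a * k⁻¹) = (ζ * β)⁻¹ := by
      rw [← eη, conj_mul', conj_mul', ia, conj_inv']
    generalize k * a * k⁻¹ = a' at hak e1 ⊢
    rw [mul_inv_rev, inv_eq_of_sq (h.sq hZ hβ), h.comm hZ (Om_le hβ) (inv_mem hζ), ← mul_assoc,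
      mul_assoc _ β, t.l.comm h hβ hak, ← mul_assoc] at e1
    exact mul_right_cancel e1) ic
  have c2 := h.sq t.l.right hc
  have d2 := h.sq t.r.right hd
  have eρ : η * b * a * α = ζ * β * (k * b * k⁻¹) * c * (k * α * k⁻¹) := by
    rw [← eη, ← ea, conj_mul', conj_mul', conj_mul', mem_Cs.1 hρ k hk, mul_inv_cancel_right]
  have ρZ : η * b * a * α ∈ Cs Z := Cs_anti le_sup_left hρ
  have ρZ' : ζ * d * c * γ ∈ Cs Z := Cs_anti le_sup_left hρ'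
  have oY : ∀ {z}, z ∈ Om Z → z ∈ Cs (Om Y) := fun hz => cs_om h t.r.symm hz
  have ρY : η * b * a * α ∈ Cs (Om Y) := by
    rw [show η * b * a * α = η * a * (a * b * a * b) * b * α by
      calc η * b * a * α = η * (a * a) * b * a * (b * b) * α := by
            rw [h.sq t.l.right ha, h.sq t.r.right hb, mul_one, mul_one]
        _ = _ := by group]
    exact mul_mem (mul_mem (mul_mem (t.symm.cent h hη η2 ha ia) (oY (four_mem h t ha hb)))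
      (Cs_anti Om_le (cs_left h t.r.right (Om_le hb)))) (oY hα)
  have ex : k * b * k⁻¹ = β⁻¹ * ζ⁻¹ * (η * b * a * α) * (k * α * k⁻¹)⁻¹ * c⁻¹ := by
    rw [eρ]; group
  have xY : k * b * k⁻¹ ∈ Cs (Om Y) := by
    rw [ex, mul_assoc β⁻¹, mem_Cs.1 ρZ _ (inv_mem hζ), mul_assoc β⁻¹, mul_assoc _ ζ⁻¹,
      h.comm hZ (inv_mem hζ) (Om_le (inv_mem hαk)), inv_eq_of_sq c2, ← mul_assoc, ← mul_assoc,
      mul_assoc _ ζ⁻¹]
    exact mul_mem (mul_mem (mul_mem (oY (inv_mem hβ)) ρY) (oY (inv_mem hαk)))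
      (t.symm.cent h (inv_mem hζ) (by rw [← mul_inv_rev]; exact inv_ne_one.2 ζ2) hc (by
        rw [← ic, mul_inv_rev, mul_inv_rev, inv_eq_of_sq c2, ic, mul_assoc]))
  have wZ : k * b * k⁻¹ * d ∈ Cs Z := by
    rw [ex, ← inv_eq_of_sq d2, show β⁻¹ * ζ⁻¹ * (η * b * a * α) * (k * α * k⁻¹)⁻¹ * c⁻¹ * d⁻¹ =
      β⁻¹ * ζ⁻¹ * (η * b * a * α) * (k * α * k⁻¹)⁻¹ * γ * (ζ * d * c * γ)⁻¹ * ζ by group]
    exact mul_mem (mul_mem (mul_mem (mul_mem (mul_mem (mul_mem (cs_left h hZ (Om_le (inv_mem hβ)))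
      (cs_left h hZ (inv_mem hζ))) ρZ) (cs_left h hZ (Om_le (inv_mem hαk))))
      (cs_left h hZ (Om_le hγ))) (inv_mem ρZ')) (cs_left h hZ hζ)
  have b1 : b ≠ 1 := fun q => η2 (by
    rw [q, mul_one, one_mul] at ib
    exact mul_eq_one_iff_eq_inv.2 ib)
  have d1 : d ≠ 1 := fun q => ζ2 (by
    rw [q, mul_one, one_mul] at id
    exact mul_eq_one_iff_eq_inv.2 id)
  have hx : k * b * k⁻¹ ∈ Om (cj k Y) := cj_Om k Y ▸ conj_mem_cj.2 hb
  have hR := h.conj t.r.right k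
  have wZ' : k * b * k⁻¹ * d ∈ Z := by
    by_cases w1 : k * b * k⁻¹ * d = 1
    · rw [w1]; exact one_mem _
    rcases h.cases_of_mem hR t.r.right (Om_le hx) (by simpa using b1)
      (h.mem_Ns_of_comm t.r.right (Om_le hd) d1 (mem_Cs.1 xY d hd).symm) with q | q | q
    · have hm : k * b * k⁻¹ * d ∈ Y := mul_mem (Om_le (q ▸ hx)) (Om_le hd)
      exact eq_of_cent h hn t.r.right hZ hm w1 wZ ▸ hm
    · exact absurd q (hn _ _)
    · obtain ⟨g, -, hg⟩ := q.part' h (t.full h) (mul_mem (mem_sup_left hx) (mem_sup_right hd))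
      have hm := mem_cj_inv.2 (Om_le hg)
      exact eq_of_cent h hn (h.conj hR g⁻¹) hZ hm w1 wZ ▸ hm
  have l : ∀ {z}, z ∈ Z → z ∈ Tb Z X := fun hz => mem_sup_left hz
  have r : ∀ {z}, z ∈ Om X → z ∈ Tb Z X := fun hz => mem_sup_right hz
  rw [show b * d = b * (a * α * (k * α * k⁻¹)⁻¹ * c⁻¹)⁻¹ * b⁻¹ * (β⁻¹ * ζ⁻¹ * η)⁻¹ *
    (k * b * k⁻¹ * d) by rw [ex]; group]
  exact mul_mem (mul_mem (mem_normalizer_conj (mem_Ns_Tb h t hb) (inv_mem (mul_mem (mul_mem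
    (mul_mem (r ha) (l (Om_le hα))) (l (Om_le (inv_mem hαk)))) (r (inv_mem hc)))))
    (l (inv_mem (mul_mem (mul_mem (inv_mem (Om_le hβ)) (inv_mem hζ)) hη)))) (l wZ')

end Wl

theorem GT.le (h : Sy S) (hn : NoC S) (t : GT S Z X Y) : Om Y ≤ Tb Z X := by
  intro c hc
  by_cases c1 : c = 1
  · rw [c1]; exact one_mem _
  have hZ := t.l.left
  obtain ⟨ζ, hζ, ζ2, -, ic⟩ := t.hr c hc c1
  obtain ⟨η, hη, η2, hne⟩ := h.exists_two (t.full h) hZ hζ ζ2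
  have hm : η⁻¹ * ζ ∈ Z := mul_mem (inv_mem hη) hζ
  have m2 : η⁻¹ * ζ * (η⁻¹ * ζ) ≠ 1 := fun q => hne (by
    rw [mul_assoc, ← mul_assoc ζ, h.comm hZ hζ (inv_mem hη), mul_assoc, ← mul_assoc,
      ← mul_inv_rev, inv_mul_eq_one] at q
    exact q)
  obtain ⟨b, hb, -, ib⟩ := t.r.exists_inv h hη η2
  obtain ⟨d, hd, -, id⟩ := t.r.exists_inv h hm m2
  have := t.symm.inv_mul h hη hm η2 m2 hb hd ib id
  rw [mul_inv_cancel_left] at this
  rw [← t.r.inv_uniq h hζ ζ2 (mul_mem hb hd) hc this ic]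
  exact mul_mem_Tb h hn t hη η2 hm m2 hb hd ib id

theorem GT.rho_one (h : Sy S) (hn : NoC S) (t : GT S Z X Y) (hη : η ∈ Z) (h2 : η * η ≠ 1)
    (ha : a ∈ Om X) (hb : b ∈ Om Y) (hi : a * η * a = η⁻¹) (hj : b * η * b = η⁻¹) :
    η * b * a ∈ Om Z := by
  obtain ⟨α, hα, hρ⟩ := t.rho h hη h2 ha hb hi hj
  obtain ⟨y, hy, c, hc, e⟩ := (t.l.mem_Tb h).1 (mul_mem (mul_mem (mul_mem (mem_sup_left hη)
    (t.le h hn hb)) (mem_sup_right ha)) (mem_sup_left (Om_le hα)))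
  have c1 : c = 1 := t.l.symm.eq_one h (Om_le hc) (by
    have := mul_mem (cs_left h t.l.left (inv_mem hy)) (Cs_anti le_sup_left hρ)
    rwa [e, inv_mul_cancel_left] at this)
  rw [c1, mul_one] at e
  rw [t.l.eq_one h hy (e ▸ Cs_anti le_sup_right hρ)] at e
  rw [eq_inv_of_mul_eq_one_left e]
  exact inv_mem hα

end Cfsg.Lib.TIB
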